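import Cfsg.Agent.S3378

/-!
# Recognising `SL₂(5)` as a cover of the alternating group of degree five
-/

namespace Cfsg.Agent.H2.ChiFour

/-- A double cover of the alternating group of degree five in which preimages of involutions
square to the central involution. -/
theorem equiv_SL25 {H : Type*} [Group H] [Finite H] (q : H →* alternatingGroup (Fin 5)) (z : H)
    (hz : z ^ 2 = 1) (hqz : q z = 1) (hzc : ∀ a, a * z = z * a) (hker : ∀ a, q a = 1 → a = 1 ∨ a = z)
    (hinv : ∀ a, orderOf (q a) = 2 → a * a = z) (hsur : Function.Surjective q)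
    (hcard : Nat.card H = 120) :
    Nonempty (H ≃* Matrix.SpecialLinearGroup (Fin 2) (ZMod 5)) := by
  obtain ⟨x₀, hqx⟩ := hsur H66.x5
  obtain ⟨y₀, hqy⟩ := hsur H66.y5
  have hsq : ∀ k, q k = 1 → k ^ 2 = 1 := fun k hk => by
    rcases hker k hk with e | e <;> rw [e]
    · exact one_pow 2
    · exact hz
  set x := x₀ ^ 4 with hx
  set y := y₀ ^ 6 with hy
  have hx3 : x ^ 3 = 1 := by
    rw [hx, ← pow_mul, show 4 * 3 = 3 * 2 * 2 from rfl, pow_mul, pow_mul,
      hsq (x₀ ^ 3) (by rw [map_pow, hqx, H66.x5_pow]), one_pow]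
  have hy5 : y ^ 5 = 1 := by
    rw [hy, ← pow_mul, show 6 * 5 = 5 * 2 * 3 from rfl, pow_mul, pow_mul,
      hsq (y₀ ^ 5) (by rw [map_pow, hqy, H66.y5_pow]), one_pow]
  have hqx' : q x = H66.x5 := by
    rw [hx, map_pow, hqx, show 4 = 3 + 1 from rfl, pow_succ, H66.x5_pow, one_mul]
  have hqy' : q y = H66.y5 := by
    rw [hy, map_pow, hqy, show 6 = 5 + 1 from rfl, pow_succ, H66.y5_pow, one_mul]
  have hxy : (x * y) ^ 2 = z := by
    rw [pow_two]
    refine hinv _ ?_
    rw [map_mul, hqx', hqy']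
    exact orderOf_eq_prime (p := 2) H66.x5y5_pow (by decide)
  have hgen : Subgroup.closure ({x, y} : Set H) = ⊤ := by
    set C := Subgroup.closure ({x, y} : Set H) with hC
    have hzC : z ∈ C := hxy ▸ C.pow_mem (C.mul_mem (Subgroup.subset_closure (by simp))
      (Subgroup.subset_closure (by simp))) 2
    have hmap : C.map q = ⊤ := by
      rw [hC, MonoidHom.map_closure, Set.image_pair, hqx', hqy', H66.closure_x5_y5]
    refine eq_top_iff.2 fun g _ => ?_
    obtain ⟨c, hc, hcg⟩ := Subgroup.mem_map.mp (hmap.symm ▸ Subgroup.mem_top (q g))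
    rcases hker (c⁻¹ * g) (by rw [map_mul, map_inv, hcg, inv_mul_cancel]) with e | e
    · rw [← inv_mul_eq_one.1 e]; exact hc
    · rw [show g = c * z by rw [← e, mul_inv_cancel_left]]
      exact C.mul_mem hc hzC
  obtain ⟨i⟩ := S3378.equiv_presented x y z hx3 hy5 hz (hzc x).symm (hzc y).symm hxy hgen hcard
  obtain ⟨j⟩ := S3378.presented_SL
  exact ⟨i.symm.trans j⟩

/-- `PSL₂(5)` is the alternating group of degree five. -/
theorem psl_equiv_alt :
    Nonempty (Matrix.ProjectiveSpecialLinearGroup (Fin 2) (ZMod 5) ≃* alternatingGroup (Fin 5)) := by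
  let f : Fin 3 → alternatingGroup (Fin 5) := ![H66.x5, H66.y5, 1]
  have hf : ∀ r ∈ S3378.rels, FreeGroup.lift f r = 1 := by
    rintro r (rfl | rfl | rfl | rfl | rfl | rfl)
    · simpa [f] using H66.x5_pow
    · simpa [f] using H66.y5_pow
    · simp [f]
    · simp [f]
    · simp [f]
    · simpa [f] using H66.x5y5_pow
  obtain ⟨j⟩ := S3378.presented_SL
  let φ : Matrix.SpecialLinearGroup (Fin 2) (ZMod 5) →* alternatingGroup (Fin 5) :=
    (PresentedGroup.toGroup hf).comp j.symm.toMonoidHom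
  have hsur : Function.Surjective φ := by
    rw [← MonoidHom.range_eq_top, eq_top_iff, ← H66.closure_x5_y5, Subgroup.closure_le]
    rintro g (rfl | rfl)
    · exact ⟨j (PresentedGroup.of 0), by simp [φ, f]⟩
    · exact ⟨j (PresentedGroup.of 1), by simp [φ, f]⟩
  have hk : Nat.card φ.ker = 2 := by
    have h1 := φ.ker.card_mul_index
    rw [Subgroup.index_ker, MonoidHom.range_eq_top.2 hsur, Subgroup.card_top, H66.card_SL25,
      show Nat.card (alternatingGroup (Fin 5)) = 60 from (Nat.card_eq_fintype_card).trans rfl] at h1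
    omega
  have hc1 : φ.ker ≤ Subgroup.center (Matrix.SpecialLinearGroup (Fin 2) (ZMod 5)) := by
    intro a ha
    rw [Subgroup.mem_center_iff]
    intro g
    rcases eq_or_ne a 1 with rfl | ha1
    · rw [mul_one, one_mul]
    have hm := φ.normal_ker.conj_mem a ha g
    obtain ⟨⟨b, hb⟩, ⟨c, hc⟩, -, hu⟩ := Nat.card_eq_two_iff.1 hk
    have hmem : ∀ w ∈ φ.ker, w = b ∨ w = c := fun w hw => by
      have : (⟨w, hw⟩ : φ.ker) ∈ ({⟨b, hb⟩, ⟨c, hc⟩} : Set φ.ker) := hu ▸ Set.mem_univ _
      simpa [Subtype.ext_iff] using this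
    have hne : g * a * g⁻¹ ≠ 1 := fun e => ha1 (conj_eq_one_iff.1 e)
    have : g * a * g⁻¹ = a := by
      rcases hmem a ha with e1 | e1 <;> rcases hmem _ hm with e2 | e2 <;>
        rcases hmem 1 φ.ker.one_mem with e3 | e3
      all_goals first
        | exact e2.trans e1.symm
        | exact absurd (e1.trans e3.symm) ha1
        | exact absurd (e2.trans e3.symm) hne
    exact mul_inv_eq_iff_eq_mul.1 this
  have hc2 : Subgroup.center (Matrix.SpecialLinearGroup (Fin 2) (ZMod 5)) ≤ φ.ker := by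
    intro a ha
    have h1 : φ a ∈ Subgroup.center (alternatingGroup (Fin 5)) := by
      rw [Subgroup.mem_center_iff]
      intro b
      obtain ⟨g, rfl⟩ := hsur b
      rw [← map_mul, ← map_mul, Subgroup.mem_center_iff.1 ha g]
    rw [MonoidHom.mem_ker]
    have hA : ∀ b : alternatingGroup (Fin 5), b * H66.x5 = H66.x5 * b → b * H66.y5 = H66.y5 * b → b = 1 := by
      decide +kernel
    exact hA _ (Subgroup.mem_center_iff.1 h1 _).symm (Subgroup.mem_center_iff.1 h1 _).symm
  exact ⟨(QuotientGroup.quotientMulEquivOfEq (le_antisymm hc2 hc1)).trans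
    (QuotientGroup.quotientKerEquivOfSurjective φ hsur)⟩

end Cfsg.Agent.H2.ChiFour
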