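import Cfsg.Agent.H2.ChiFour.DegThree
import Cfsg.Agent.S4757

/-!
# Groups with `χ(1) - χ(u) = 4` or `χ(u) = 0`: character bookkeeping
-/

open scoped ComplexConjugate

namespace Cfsg.Agent.H2.ChiFour

open CharBasic BlockBasic

universe u

variable {G : Type u} [Group G]

/-- The hypothesis. -/
def Hyp (G : Type u) [Group G] (x : G) : Prop :=
  x ≠ 1 ∧ ∀ χ : Cfsg.IrrCharacter G, (χ : G → ℂ) ≠ (fun _ => (1 : ℂ)) →
    ((χ : G → ℂ) 1 - (χ : G → ℂ) x = 4 ∨ (χ : G → ℂ) x = 0)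

/-- The principal character. -/
noncomputable def pr (G : Type u) [Group G] : Cfsg.IrrCharacter G := ⟨_, isIrrCharacter_one⟩

/-- The degree. -/
noncomputable def dg (χ : Cfsg.IrrCharacter G) : ℕ := Cfsg.charDegree (χ : G → ℂ)

open scoped Classical in
/-- The value at the distinguished element, as an integer. -/
noncomputable def val (x : G) (χ : Cfsg.IrrCharacter G) : ℤ :=
  if χ = pr G then 1 else if (χ : G → ℂ) x = 0 then 0 else (dg χ : ℤ) - 4

variable [Fintype G] {x : G}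

theorem ne_one_fun {χ : Cfsg.IrrCharacter G} (h : χ ≠ pr G) :
    (χ : G → ℂ) ≠ (fun _ => (1 : ℂ)) := fun e => h (Subtype.ext e)

theorem dg_pr : dg (pr G) = 1 := by simp [dg, pr, Cfsg.charDegree]

theorem apply_one (χ : Cfsg.IrrCharacter G) : (χ : G → ℂ) 1 = (dg χ : ℂ) :=
  apply_one_eq_charDegree χ

theorem apply_x (h : Hyp G x) (χ : Cfsg.IrrCharacter G) : (χ : G → ℂ) x = (val x χ : ℂ) := by
  unfold val
  split_ifs with h1 h2
  · subst h1; simp [pr]
  · simp [h2]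
  · have := (h.2 χ (ne_one_fun h1)).resolve_right h2
    rw [apply_one] at this
    push_cast
    linear_combination -this

theorem val_pr : val x (pr G) = 1 := by simp [val]

theorem perfect (h : Hyp G x) : commutator G = ⊤ := by
  by_contra hne
  have := (S4757.result x h.1 4 h.2).2.1 hne
  norm_num at this

theorem sum_dg_val (h : Hyp G x) : ∑ χ : Cfsg.IrrCharacter G, (dg χ : ℤ) * val x χ = 0 := by
  classical
  have h1 := sum_degree_mul_apply x
  rw [if_neg h.1] at h1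
  have : ((∑ χ : Cfsg.IrrCharacter G, (dg χ : ℤ) * val x χ : ℤ) : ℂ) = 0 := by
    rw [← h1]
    push_cast
    exact Finset.sum_congr rfl fun χ _ => by rw [apply_one, apply_x h]
  exact_mod_cast this

theorem two_le_dg (h : Hyp G x) {χ : Cfsg.IrrCharacter G} (hne : χ ≠ pr G) : 2 ≤ dg χ := by
  have h0 : 0 < dg χ := charDegree_pos χ
  by_contra hlt
  have h1 : dg χ = 1 := by omega
  have hn : ‖(χ : G → ℂ) x‖ = 1 := by
    obtain ⟨n, ρ, hρ, hχ⟩ := χ.2
    have hn : Module.finrank ℂ (Fin n → ℂ) = 1 := by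
      have := apply_one χ
      rw [← hχ, Representation.char_one, h1] at this
      exact_mod_cast this
    obtain ⟨B, μ, -, h2, h3⟩ := exists_eigenbasis_rep ρ x
    let e : Fin (Module.finrank ℂ (Fin n → ℂ)) ≃ Fin 1 := finCongr hn
    rw [← hχ, h3, ← e.symm.sum_comp μ, Fin.sum_univ_one]
    exact norm_eq_one_of_pow_orderOf (h2 _)
  rcases h.2 χ (ne_one_fun hne) with h4 | h4
  · rw [apply_one, h1] at h4
    have h5 : (χ : G → ℂ) x = -3 := by push_cast at h4; linear_combination -h4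
    rw [h5] at hn
    norm_num at hn
  · rw [h4] at hn
    norm_num at hn

/-- Multiplicities in a character, with the expansions at `1` and at `x`. -/
theorem exists_mult (h : Hyp G x) {Φ : G → ℂ} (hΦ : Cfsg.IsCharacter G Φ) (n : ℕ) (v : ℤ)
    (hn : Φ 1 = n) (hv : Φ x = v) :
    ∃ m : Cfsg.IrrCharacter G → ℕ,
      (∀ ψ : Cfsg.IrrCharacter G, Cfsg.classInner Φ (ψ : G → ℂ) = m ψ) ∧
      Φ = ∑ ψ : Cfsg.IrrCharacter G, (m ψ : ℂ) • (ψ : G → ℂ) ∧
      (∑ ψ : Cfsg.IrrCharacter G, m ψ * dg ψ = n) ∧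
      (∑ ψ : Cfsg.IrrCharacter G, (m ψ : ℤ) * val x ψ = v) := by
  obtain ⟨m, hm, he⟩ := IsChar.exists_nat_mult hΦ
  refine ⟨m, hm, he, ?_, ?_⟩
  · have := congrFun he 1
    rw [hn] at this
    simp only [Finset.sum_apply, Pi.smul_apply, smul_eq_mul, apply_one] at this
    exact_mod_cast this.symm
  · have := congrFun he x
    rw [hv] at this
    simp only [Finset.sum_apply, Pi.smul_apply, smul_eq_mul, apply_x h] at this
    exact_mod_cast this.symm

/-- A character of degree one without principal constituent cannot exist. -/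
theorem small_false (h : Hyp G x) {Φ : G → ℂ} (hΦ : Cfsg.IsCharacter G Φ) (v : ℤ)
    (hn : Φ 1 = 1) (hv : Φ x = v) (h0 : Cfsg.classInner Φ (pr G : G → ℂ) = 0) : False := by
  obtain ⟨m, hm, -, h1, -⟩ := exists_mult h hΦ 1 v (by simpa using hn) hv
  rw [hm, Nat.cast_eq_zero] at h0
  have : ∀ ψ, m ψ = 0 := by
    intro ψ
    rcases eq_or_ne ψ (pr G) with rfl | hne
    · exact h0
    · have h2 := Finset.single_le_sum (f := fun ψ => m ψ * dg ψ) (fun _ _ => Nat.zero_le _)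
        (Finset.mem_univ ψ)
      rw [h1] at h2
      have := Nat.le_trans (Nat.mul_le_mul_left (m ψ) (two_le_dg h hne)) h2
      omega
  simp [this] at h1

theorem val_pos_iff {χ : Cfsg.IrrCharacter G} (hne : χ ≠ pr G) (hp : 0 < val x χ) :
    5 ≤ dg χ ∧ val x χ = (dg χ : ℤ) - 4 := by
  unfold val at hp ⊢
  rw [if_neg hne] at hp ⊢
  by_cases h2 : (χ : G → ℂ) x = 0
  · simp [h2] at hp
  rw [if_neg h2] at hp ⊢
  exact ⟨by omega, rfl⟩

theorem dg_ne_two_of_val (h : Hyp G x) {χ : Cfsg.IrrCharacter G} (hne : χ ≠ pr G)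
    (hv : val x χ ≠ 0) : dg χ ≠ 2 := by
  intro h2
  have hval : val x χ = -2 := by
    unfold val at hv ⊢
    rw [if_neg hne] at hv ⊢
    split_ifs at hv ⊢ with h3
    · exact absurd rfl hv
    · omega
  set Φ : G → ℂ := (χ : G → ℂ) * fun g => conj ((χ : G → ℂ) g) with hΦdef
  have hΦ : Cfsg.IsCharacter G Φ :=
    CharInduce.IsChar.mul (IsIrr.isCharacter χ.2) (CharInduce.IsChar.conj (IsIrr.isCharacter χ.2))
  obtain ⟨m, hm, -, h1, h4⟩ := exists_mult h hΦ 4 4
    (by simp [hΦdef, apply_one, h2, map_ofNat]; norm_num) (by simp [hΦdef, apply_x h, hval, map_ofNat]; norm_num)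
  have hm1 : m (pr G) = 1 := by
    have h5 := hm (pr G)
    have h6 : Cfsg.classInner Φ (pr G : G → ℂ) = Cfsg.classInner (χ : G → ℂ) (χ : G → ℂ) := by
      simp [classInner_def, hΦdef, pr]
    rw [h6, classInner_irr_self χ.2] at h5
    exact_mod_cast h5.symm
  rw [← Finset.add_sum_erase _ _ (Finset.mem_univ (pr G)), hm1, dg_pr] at h1
  rw [← Finset.add_sum_erase _ _ (Finset.mem_univ (pr G)), hm1, val_pr] at h4
  have hle : ∑ ψ ∈ Finset.univ.erase (pr G), (m ψ : ℤ) * val x ψ ≤ 0 := by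
    refine Finset.sum_nonpos fun ψ hψ => ?_
    by_contra hlt
    push Not at hlt
    have hne' := Finset.ne_of_mem_erase hψ
    have hvp : 0 < val x ψ := by
      by_contra hc
      push Not at hc
      exact absurd hlt (not_lt.2 (mul_nonpos_of_nonneg_of_nonpos (by positivity) hc))
    have hmp : m ψ ≠ 0 := by rintro h0; simp [h0] at hlt
    have h7 := Finset.single_le_sum (f := fun ψ => m ψ * dg ψ) (fun _ _ => Nat.zero_le _) hψ
    have h8 : dg ψ ≤ m ψ * dg ψ := Nat.le_mul_of_pos_left _ (Nat.pos_of_ne_zero hmp)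
    have := (val_pos_iff hne' hvp).1
    omega
  omega

theorem val_cases (h : Hyp G x) {χ : Cfsg.IrrCharacter G} (hne : χ ≠ pr G) :
    val x χ = 0 ∨ (dg χ = 3 ∧ val x χ = -1) ∨
      (5 ≤ dg χ ∧ val x χ = (dg χ : ℤ) - 4 ∧ 0 < val x χ) := by
  by_cases h0 : val x χ = 0
  · exact Or.inl h0
  right
  have h2 := two_le_dg h hne
  have h3 := dg_ne_two_of_val h hne h0
  have hval : val x χ = (dg χ : ℤ) - 4 := by
    unfold val at h0 ⊢
    rw [if_neg hne] at h0 ⊢
    split_ifs at h0 ⊢ with h5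
    · exact absurd rfl h0
    · rfl
  omega

/-- A character without principal constituent and with positive value has a positive constituent. -/
theorem exists_pos (h : Hyp G x) {Φ : G → ℂ} (hΦ : Cfsg.IsCharacter G Φ) (n : ℕ) (v : ℤ)
    (hn : Φ 1 = n) (hv : Φ x = v) (hpos : 0 < v)
    (h0 : Cfsg.classInner Φ (pr G : G → ℂ) = 0) :
    ∃ ψ : Cfsg.IrrCharacter G, ψ ≠ pr G ∧ 5 ≤ dg ψ ∧ val x ψ = (dg ψ : ℤ) - 4 ∧
      Cfsg.classInner Φ (ψ : G → ℂ) ≠ 0 ∧ dg ψ ≤ n := by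
  obtain ⟨m, hm, -, h1, h2⟩ := exists_mult h hΦ n v hn hv
  rw [hm, Nat.cast_eq_zero] at h0
  by_contra hc
  push Not at hc
  have : ∑ ψ, (m ψ : ℤ) * val x ψ ≤ 0 := by
    refine Finset.sum_nonpos fun ψ _ => ?_
    rcases eq_or_ne ψ (pr G) with rfl | hne
    · rw [h0]; norm_num
    rcases val_cases h hne with h4 | ⟨-, h4⟩ | ⟨h5, h4, -⟩
    · simp [h4]
    · simp [h4]
    · rcases Nat.eq_zero_or_pos (m ψ) with h6 | h6
      · simp [h6]
      · exfalso
        have h7 := hc ψ hne h5 h4 (by rw [hm]; exact_mod_cast h6.ne')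
        have h8 := Finset.single_le_sum (f := fun ψ => m ψ * dg ψ) (fun _ _ => Nat.zero_le _)
          (Finset.mem_univ ψ)
        have h9 : dg ψ ≤ m ψ * dg ψ := Nat.le_mul_of_pos_left _ h6
        omega
  omega

/-- Small characters with positive value are irreducible. -/
theorem eq_irr_of_small (h : Hyp G x) {Φ : G → ℂ} (hΦ : Cfsg.IsCharacter G Φ) (n : ℕ) (v : ℤ)
    (hn : Φ 1 = n) (hv : Φ x = v) (hpos : 0 < v) (h6 : n ≤ 6)
    (h0 : Cfsg.classInner Φ (pr G : G → ℂ) = 0) :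
    ∃ ψ : Cfsg.IrrCharacter G, ψ ≠ pr G ∧ dg ψ = n ∧ val x ψ = (n : ℤ) - 4 ∧
      (ψ : G → ℂ) = Φ ∧ 5 ≤ n := by
  obtain ⟨ψ, hne, h5, hval, hin, hle⟩ := exists_pos h hΦ n v hn hv hpos h0
  obtain ⟨m, hm, he, h1, -⟩ := exists_mult h hΦ n v hn hv
  rw [hm, Nat.cast_eq_zero] at h0
  rw [hm, Ne, Nat.cast_eq_zero] at hin
  rw [← Finset.add_sum_erase _ _ (Finset.mem_univ ψ)] at h1
  have hm1 : m ψ = 1 := by
    rcases Nat.lt_or_ge (m ψ) 2 with h2 | h2
    · omega
    · have := Nat.mul_le_mul h2 h5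
      omega
  have hrest : ∀ φ ∈ Finset.univ.erase ψ, m φ = 0 := by
    intro φ hφ
    rcases eq_or_ne φ (pr G) with rfl | hφ1
    · exact h0
    · have h8 := Finset.single_le_sum (f := fun ψ => m ψ * dg ψ) (fun _ _ => Nat.zero_le _) hφ
      rw [hm1] at h1
      have := Nat.le_trans (Nat.mul_le_mul_left (m φ) (two_le_dg h hφ1)) h8
      omega
  have hd : dg ψ = n := by
    rw [hm1, Finset.sum_eq_zero (fun φ hφ => by rw [hrest φ hφ, zero_mul])] at h1
    simpa using h1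
  refine ⟨ψ, hne, hd, by rw [hval, hd], ?_, hd ▸ h5⟩
  rw [he, Finset.sum_eq_single ψ (fun φ _ hne' => by
    simp [hrest φ (Finset.mem_erase.2 ⟨hne', Finset.mem_univ _⟩)]) (by simp)]
  simp [hm1]

/-- Removing a constituent leaves a character. -/
theorem isCharacter_sub {Φ : G → ℂ} (hΦ : Cfsg.IsCharacter G Φ) (χ : Cfsg.IrrCharacter G)
    (hne : Cfsg.classInner Φ (χ : G → ℂ) ≠ 0) : Cfsg.IsCharacter G (Φ - (χ : G → ℂ)) := by
  classical
  refine isCharacter_iff_nat.2 ⟨fun g t => by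
    simp [IsChar.isClassFunction hΦ g t, IsIrr.isClassFunction χ.2 g t], fun ψ => ?_⟩
  obtain ⟨m, hm⟩ := classInner_isChar_nat hΦ (IsIrr.isCharacter ψ.2)
  rw [classInner_sub_left, hm, classInner_irrCharacter]
  split_ifs with h
  · subst h
    have : m ≠ 0 := by rintro rfl; exact hne (by simpa using hm)
    exact ⟨m - 1, by rw [Nat.cast_sub (Nat.one_le_iff_ne_zero.2 this)]; simp⟩
  · exact ⟨m, by simp⟩

/-- Two characters with a common constituent are not orthogonal. -/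
theorem classInner_ne_zero_of_common {Φ Ψ : G → ℂ} (hΦ : Cfsg.IsCharacter G Φ)
    (hΨ : Cfsg.IsCharacter G Ψ) (χ : Cfsg.IrrCharacter G)
    (h1 : Cfsg.classInner Φ (χ : G → ℂ) ≠ 0) (h2 : Cfsg.classInner Ψ (χ : G → ℂ) ≠ 0) :
    Cfsg.classInner Φ Ψ ≠ 0 := by
  obtain ⟨m, hm, -⟩ := IsChar.exists_nat_mult hΦ
  obtain ⟨n, hn, -⟩ := IsChar.exists_nat_mult hΨ
  rw [hm, Ne, Nat.cast_eq_zero] at h1
  rw [hn, Ne, Nat.cast_eq_zero] at h2
  rw [classInner_eq_sum (IsChar.isClassFunction hΦ)]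
  simp only [hm, hn, Complex.conj_natCast]
  have : 0 < ∑ ψ, m ψ * n ψ :=
    lt_of_lt_of_le (Nat.pos_of_ne_zero (mul_ne_zero h1 h2))
      (Finset.single_le_sum (f := fun ψ => m ψ * n ψ) (fun _ _ => Nat.zero_le _) (Finset.mem_univ χ))
  exact_mod_cast this.ne'

theorem inner_mul_left (a b c : G → ℂ) :
    Cfsg.classInner (a * b) c = Cfsg.classInner a (fun g => conj (b g) * c g) := by
  simp only [classInner_def, Pi.mul_apply, map_mul, Complex.conj_conj, mul_assoc]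

end Cfsg.Agent.H2.ChiFour
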