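import Mathlib

/-!
# The pointwise inequality bounding the number of real characters of degree three
-/

namespace Cfsg.Agent.H2.ChiFour

/-- `P x = -x⁴ + 2x³ + 3x²`. -/
def quart (x : ℝ) : ℝ := -x ^ 4 + 2 * x ^ 3 + 3 * x ^ 2

theorem quart_nonneg {x : ℝ} (h1 : -1 ≤ x) (h2 : x ≤ 3) : 0 ≤ quart x := by
  have : quart x = x ^ 2 * ((x + 1) * (3 - x)) := by unfold quart; ring
  rw [this]
  exact mul_nonneg (sq_nonneg _) (mul_nonneg (by linarith) (by linarith))

/-- Two differing values satisfy the golden equation. -/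
theorem golden {e f : ℝ} (h : e ^ 2 - e = f ^ 2 - f)
    (h2 : (e ^ 2 - 2 * e) ^ 2 - (e ^ 2 - 2 * e) = (f ^ 2 - 2 * f) ^ 2 - (f ^ 2 - 2 * f))
    (hne : e ≠ f) : f = 1 - e ∧ e ^ 2 = e + 1 := by
  have h1 : e + f - 1 = 0 := by
    have : (e - f) * (e + f - 1) = 0 := by linear_combination h
    exact (mul_eq_zero.1 this).resolve_left (sub_ne_zero.2 hne)
  have hf : f = 1 - e := by linarith
  refine ⟨hf, ?_⟩
  subst hf
  have h3 : (1 - 2 * e) * (2 * e ^ 2 - 2 * e - 2) = 0 := by linear_combination h2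
  rcases mul_eq_zero.1 h3 with h4 | h4
  · exact absurd (by linarith : e = 1 - e) hne
  · linarith

theorem quart_pair {e f : ℝ} (hf : f = 1 - e) (he : e ^ 2 = e + 1) :
    10 < 2 * quart e + quart f ∧ 2 * (e - f) ^ 2 = 10 := by
  subst hf
  refine ⟨?_, by linear_combination 8 * he⟩
  have h4 : quart e = 4 * e + 3 := by
    unfold quart; linear_combination (-e ^ 2 + e + 3) * he
  have h5 : quart (1 - e) = 7 - 4 * e := by
    unfold quart; linear_combination (-e ^ 2 + e + 3) * he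
  rw [h4, h5]
  nlinarith

/-- The pointwise inequality for three values. -/
theorem three_values {e f h : ℝ} (he : -1 ≤ e) (he' : e ≤ 3) (hf : -1 ≤ f) (hf' : f ≤ 3)
    (hh : -1 ≤ h) (hh' : h ≤ 3) (r1 : e ^ 2 - e = f ^ 2 - f) (r2 : e ^ 2 - e = h ^ 2 - h)
    (s1 : (e ^ 2 - 2 * e) ^ 2 - (e ^ 2 - 2 * e) = (f ^ 2 - 2 * f) ^ 2 - (f ^ 2 - 2 * f))
    (s2 : (e ^ 2 - 2 * e) ^ 2 - (e ^ 2 - 2 * e) = (h ^ 2 - 2 * h) ^ 2 - (h ^ 2 - 2 * h)) :
    (e - f) ^ 2 + (f - h) ^ 2 + (e - h) ^ 2 ≤ quart e + quart f + quart h ∧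
      (quart e + quart f + quart h = (e - f) ^ 2 + (f - h) ^ 2 + (e - h) ^ 2 → e = f) := by
  rcases eq_or_ne e f with rfl | hef
  · refine ⟨?_, fun _ => rfl⟩
    rcases eq_or_ne e h with rfl | heh
    · have := quart_nonneg he he'
      linarith [sub_self e, sq (0 : ℝ), show (e - e) ^ 2 = 0 by ring]
    · obtain ⟨p1, p2⟩ := quart_pair (golden r2 s2 heh).1 (golden r2 s2 heh).2
      linarith [show (e - e) ^ 2 = 0 by ring]
  · have hfh : h = e ∨ h = f := by
      obtain ⟨hf1, -⟩ := golden r1 s1 hef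
      have : (h - e) * (h - f) = 0 := by subst hf1; linear_combination -r2
      rcases mul_eq_zero.1 this with h' | h'
      · exact Or.inl (sub_eq_zero.1 h')
      · exact Or.inr (sub_eq_zero.1 h')
    rcases hfh with rfl | rfl
    · obtain ⟨p1, p2⟩ := quart_pair (golden r1 s1 hef).1 (golden r1 s1 hef).2
      have z : (h - h) ^ 2 = 0 := by ring
      have w : (f - h) ^ 2 = (h - f) ^ 2 := by ring
      constructor <;> intros <;> linarith
    · obtain ⟨p1, p2⟩ := quart_pair (golden r1.symm s1.symm hef.symm).1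
        (golden r1.symm s1.symm hef.symm).2
      have z : (h - h) ^ 2 = 0 := by ring
      have w : (h - e) ^ 2 = (e - h) ^ 2 := by ring
      constructor <;> intros <;> linarith

end Cfsg.Agent.H2.ChiFour
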