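import Cfsg.Agent.H2.ChiFour.Basic
import Cfsg.Agent.H2.ChiFour.Pointwise

/-!
# The column of the distinguished element has four nonzero entries
-/

open scoped ComplexConjugate

namespace Cfsg.Agent.H2.ChiFour

open CharBasic BlockBasic

universe u

variable {G : Type u} [Group G] [Fintype G] {x : G}

/-- The conjugate character. -/
noncomputable def cj (χ : Cfsg.IrrCharacter G) : Cfsg.IrrCharacter G :=
  ⟨fun g => conj ((χ : G → ℂ) g), isIrr_of_norm_one
    (CharInduce.IsChar.conj (IsIrr.isCharacter χ.2)) (by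
      have h := classInner_irr_self χ.2
      rw [classInner_def] at h ⊢
      simpa [mul_comm] using h)⟩

theorem cj_apply (χ : Cfsg.IrrCharacter G) (g : G) :
    (cj χ : G → ℂ) g = conj ((χ : G → ℂ) g) := rfl

/-- Degree three with value `-1`. -/
def Three (x : G) (χ : Cfsg.IrrCharacter G) : Prop :=
  χ ≠ pr G ∧ dg χ = 3 ∧ val x χ = -1

theorem three_of_neg (h : Hyp G x) {χ : Cfsg.IrrCharacter G} (hv : val x χ < 0) : Three x χ := by
  have hne : χ ≠ pr G := by rintro rfl; rw [val_pr] at hv; omega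
  rcases val_cases h hne with h0 | ⟨h1, h2⟩ | ⟨-, -, h3⟩
  · omega
  · exact ⟨hne, h1, h2⟩
  · omega

namespace Three

variable {χ φ : Cfsg.IrrCharacter G}

theorem apply_one (hχ : Three x χ) : (χ : G → ℂ) 1 = 3 := by
  rw [ChiFour.apply_one, hχ.2.1]; norm_num

theorem apply_val (h : Hyp G x) (hχ : Three x χ) : (χ : G → ℂ) x = -1 := by
  rw [apply_x h, hχ.2.2]; norm_num

theorem cj (h : Hyp G x) (hχ : Three x χ) : Three x (cj χ) := by
  refine three_of_neg h ?_
  have h1 : (val x (ChiFour.cj χ) : ℂ) = -1 := by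
    rw [← apply_x h, cj_apply, hχ.apply_val h, map_neg, map_one]
  have : val x (ChiFour.cj χ) = -1 := by exact_mod_cast h1
  omega

end Three

/-- `⟨χφ, 1⟩ = ⟨χ, conj φ⟩`. -/
theorem inner_mul_pr (χ φ : Cfsg.IrrCharacter G) :
    Cfsg.classInner ((χ : G → ℂ) * (φ : G → ℂ)) (pr G : G → ℂ) =
      Cfsg.classInner (χ : G → ℂ) (cj φ : G → ℂ) := by
  simp [classInner_def, pr, cj_apply, mul_assoc]

theorem inner_mul_eq_zero {χ φ : Cfsg.IrrCharacter G} (hne : cj φ ≠ χ) :
    Cfsg.classInner ((χ : G → ℂ) * (φ : G → ℂ)) (pr G : G → ℂ) = 0 := by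
  rw [inner_mul_pr, classInner_irrCharacter, if_neg (Ne.symm hne)]

theorem inner_mul_mul (a b c d : G → ℂ) :
    Cfsg.classInner (a * b) (c * d) =
      Cfsg.classInner (a * fun g => conj (c g)) ((fun g => conj (b g)) * d) := by
  simp only [classInner_def, Pi.mul_apply, map_mul, Complex.conj_conj]
  congr 1
  exact Finset.sum_congr rfl fun g _ => by ring

theorem isCharacter_mul (χ φ : Cfsg.IrrCharacter G) :
    Cfsg.IsCharacter G ((χ : G → ℂ) * (φ : G → ℂ)) :=
  CharInduce.IsChar.mul (IsIrr.isCharacter χ.2) (IsIrr.isCharacter φ.2)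

/-- A product of two characters of degree three is never irreducible. -/
theorem norm_mul_ne_one (h : Hyp G x) {χ φ : Cfsg.IrrCharacter G} (hχ : Three x χ)
    (hφ : Three x φ) :
    Cfsg.classInner ((χ : G → ℂ) * (φ : G → ℂ)) ((χ : G → ℂ) * (φ : G → ℂ)) ≠ 1 := by
  intro h1
  let π : Cfsg.IrrCharacter G := ⟨_, isIrr_of_norm_one (isCharacter_mul χ φ) h1⟩
  have e1 : (dg π : ℂ) = 9 := by
    rw [← ChiFour.apply_one]
    show (χ : G → ℂ) 1 * (φ : G → ℂ) 1 = 9
    rw [hχ.apply_one, hφ.apply_one]; norm_num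
  have e2 : (val x π : ℂ) = 1 := by
    rw [← apply_x h]
    show (χ : G → ℂ) x * (φ : G → ℂ) x = 1
    rw [hχ.apply_val h, hφ.apply_val h]; norm_num
  have e1' : dg π = 9 := by exact_mod_cast e1
  have e2' : val x π = 1 := by exact_mod_cast e2
  have hne : π ≠ pr G := by intro e; rw [e, dg_pr] at e1'; omega
  rcases val_cases h hne with h0 | ⟨h0, -⟩ | ⟨-, h0, -⟩ <;> omega

/-- The remainder `χ² - conj χ`. -/
theorem sq_rest (h : Hyp G x) {χ : Cfsg.IrrCharacter G} (hχ : Three x χ) :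
    Cfsg.IsCharacter G ((χ : G → ℂ) * (χ : G → ℂ) - (cj χ : G → ℂ)) ∧
      ((χ : G → ℂ) * (χ : G → ℂ) - (cj χ : G → ℂ) : G → ℂ) 1 = 6 ∧
      ((χ : G → ℂ) * (χ : G → ℂ) - (cj χ : G → ℂ) : G → ℂ) x = 2 ∧
      Cfsg.classInner ((χ : G → ℂ) * (χ : G → ℂ) - (cj χ : G → ℂ)) (pr G : G → ℂ) =
        if cj χ = χ then 1 else 0 := by
  classical
  refine ⟨?_, ?_, ?_, ?_⟩
  · refine isCharacter_sub (isCharacter_mul χ χ) (cj χ) ?_
    have h1 := classInner_sq_conj_ne_zero (perfect h) (IsIrr.isCharacter χ.2) hχ.apply_one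
    intro h0
    rw [← classInner_conj_symm] at h1
    exact h1 (by rw [show (fun g => conj ((χ : G → ℂ) g)) = (cj χ : G → ℂ) from rfl, h0, map_zero])
  · simp [hχ.apply_one, cj_apply, map_ofNat]; norm_num
  · simp [hχ.apply_val h, cj_apply]; norm_num
  · rw [classInner_sub_left, inner_mul_pr, classInner_irrCharacter, classInner_irrCharacter,
      if_neg (hχ.cj h).1, sub_zero]
    exact if_congr eq_comm rfl rfl

/-- Nonreal case: `χ² = conj χ + six`. -/
theorem exists_six (h : Hyp G x) {χ : Cfsg.IrrCharacter G} (hχ : Three x χ) (hnr : cj χ ≠ χ) :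
    ∃ S : Cfsg.IrrCharacter G, dg S = 6 ∧ val x S = 2 ∧
      (χ : G → ℂ) * (χ : G → ℂ) = (cj χ : G → ℂ) + (S : G → ℂ) := by
  obtain ⟨h1, h2, h3, h4⟩ := sq_rest h hχ
  rw [if_neg hnr] at h4
  obtain ⟨S, -, hd, hv, hS, -⟩ :=
    eq_irr_of_small h h1 6 2 (by simpa using h2) (by simpa using h3) (by norm_num) (le_refl 6) h4
  exact ⟨S, hd, by rw [hv]; norm_num, by rw [hS]; abel⟩

/-- Real case: `χ² = 1 + χ + five`. -/
theorem exists_five (h : Hyp G x) {χ : Cfsg.IrrCharacter G} (hχ : Three x χ) (hr : cj χ = χ) :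
    ∃ W : Cfsg.IrrCharacter G, W ≠ pr G ∧ dg W = 5 ∧ val x W = 1 ∧
      (χ : G → ℂ) * (χ : G → ℂ) = (pr G : G → ℂ) + (χ : G → ℂ) + (W : G → ℂ) := by
  classical
  obtain ⟨h1, h2, h3, h4⟩ := sq_rest h hχ
  rw [if_pos hr] at h4
  have h5 := isCharacter_sub h1 (pr G) (by rw [h4]; norm_num)
  have h6 : Cfsg.classInner ((χ : G → ℂ) * (χ : G → ℂ) - (cj χ : G → ℂ) - (pr G : G → ℂ))
      (pr G : G → ℂ) = 0 := by
    rw [classInner_sub_left, h4, classInner_irrCharacter, if_pos rfl, sub_self]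
  obtain ⟨W, hne, hd, hv, hW, -⟩ := eq_irr_of_small h h5 5 1
    (by rw [Pi.sub_apply, h2]; simp [pr]; norm_num) (by rw [Pi.sub_apply, h3]; simp [pr]; norm_num)
    (by norm_num) (by norm_num) h6
  exact ⟨W, hne, hd, by rw [hv]; norm_num, by rw [hW, hr]; abel⟩

theorem norm_two_irr (A B : Cfsg.IrrCharacter G) (hAB : A ≠ B) :
    Cfsg.classInner ((A : G → ℂ) + (B : G → ℂ)) ((A : G → ℂ) + (B : G → ℂ)) = 2 := by
  classical
  simp only [classInner_add_left, classInner_add_right, classInner_irrCharacter, if_pos, if_neg hAB,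
    if_neg (Ne.symm hAB)]
  norm_num

/-- Nonreal case: `χ conj χ = 1 + eight`. -/
theorem exists_eight (h : Hyp G x) {χ : Cfsg.IrrCharacter G} (hχ : Three x χ) (hnr : cj χ ≠ χ) :
    ∃ E : Cfsg.IrrCharacter G, dg E = 8 ∧ val x E = 0 ∧
      (χ : G → ℂ) * (cj χ : G → ℂ) = (pr G : G → ℂ) + (E : G → ℂ) := by
  classical
  obtain ⟨S, hSd, hSv, hS⟩ := exists_six h hχ hnr
  set P : G → ℂ := (χ : G → ℂ) * (cj χ : G → ℂ) with hP
  have hPP : Cfsg.classInner P P = 2 := by
    have : Cfsg.classInner P P =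
        Cfsg.classInner ((χ : G → ℂ) * (χ : G → ℂ)) ((χ : G → ℂ) * (χ : G → ℂ)) := by
      simp only [hP, classInner_def, Pi.mul_apply, map_mul, cj_apply, Complex.conj_conj]
      congr 1
      exact Finset.sum_congr rfl fun g _ => by ring
    rw [this, hS, norm_two_irr]
    intro e
    have h3 : dg (cj χ) = 3 := (hχ.cj h).2.1
    rw [e, hSd] at h3
    omega
  have hcc : cj (cj χ) = χ := Subtype.ext (funext fun g => by simp [cj_apply])
  have hP1 : Cfsg.classInner P (pr G : G → ℂ) = 1 := by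
    rw [hP, inner_mul_pr, hcc, classInner_irr_self χ.2]
  have hP1' : Cfsg.classInner (pr G : G → ℂ) P = 1 := by
    rw [← classInner_conj_symm, hP1, map_one]
  have hch : Cfsg.IsCharacter G (P - (pr G : G → ℂ)) :=
    isCharacter_sub (isCharacter_mul χ (cj χ)) (pr G) (by rw [hP1]; norm_num)
  have hn1 : Cfsg.classInner (P - (pr G : G → ℂ)) (P - (pr G : G → ℂ)) = 1 := by
    simp only [classInner_sub_left, classInner_sub_right, hPP, hP1, hP1', classInner_irr_self (pr G).2]
    norm_num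
  let E : Cfsg.IrrCharacter G := ⟨_, isIrr_of_norm_one hch hn1⟩
  have e1 : (dg E : ℂ) = 8 := by
    rw [← ChiFour.apply_one]
    show P 1 - 1 = 8
    simp [hP, hχ.apply_one, cj_apply, map_ofNat]; norm_num
  have e2 : (val x E : ℂ) = 0 := by
    rw [← apply_x h]
    show P x - 1 = 0
    simp [hP, hχ.apply_val h, cj_apply]
  exact ⟨E, by exact_mod_cast e1, by exact_mod_cast e2, by
    show P = (pr G : G → ℂ) + (P - (pr G : G → ℂ)); abel⟩

open scoped Classical in
/-- The positive constituents. -/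
noncomputable def posSet (x : G) : Finset (Cfsg.IrrCharacter G) :=
  Finset.univ.filter fun ψ => ψ ≠ pr G ∧ 0 < val x ψ

open scoped Classical in
/-- The characters of degree three with value `-1`. -/
noncomputable def threeSet (x : G) : Finset (Cfsg.IrrCharacter G) :=
  Finset.univ.filter fun ψ => Three x ψ

theorem mem_threeSet {χ : Cfsg.IrrCharacter G} : χ ∈ threeSet x ↔ Three x χ := by
  simp [threeSet]

/-- The weight equation. -/
theorem weight (h : Hyp G x) :
    ∑ ψ ∈ posSet x, (dg ψ : ℤ) * val x ψ = 3 * (threeSet x).card - 1 := by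
  classical
  have h0 := sum_dg_val h
  rw [← Finset.add_sum_erase _ _ (Finset.mem_univ (pr G)), dg_pr, val_pr] at h0
  have h1 : ∑ ψ ∈ Finset.univ.erase (pr G), (dg ψ : ℤ) * val x ψ =
      ∑ ψ ∈ posSet x, (dg ψ : ℤ) * val x ψ + ∑ ψ ∈ threeSet x, (dg ψ : ℤ) * val x ψ := by
    rw [← Finset.sum_union]
    · refine (Finset.sum_subset ?_ ?_).symm
      · intro ψ hψ
        simp only [posSet, threeSet, Finset.mem_union, Finset.mem_filter, Finset.mem_univ,
          true_and] at hψ
        exact Finset.mem_erase.2 ⟨hψ.elim (fun a => a.1) (fun a => a.1), Finset.mem_univ _⟩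
      · intro ψ hψ hn
        simp only [posSet, threeSet, Finset.mem_union, Finset.mem_filter, Finset.mem_univ,
          true_and] at hn
        push Not at hn
        have hne := Finset.ne_of_mem_erase hψ
        rcases val_cases h hne with h2 | h2 | ⟨-, -, h2⟩
        · simp [h2]
        · exact absurd ⟨hne, h2⟩ hn.2
        · exact absurd (hn.1 hne) (not_le.2 h2)
    · rw [Finset.disjoint_left]
      intro ψ h2 h3
      simp only [posSet, threeSet, Finset.mem_filter, Finset.mem_univ, true_and] at h2 h3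
      have := h3.2.2
      omega
  have h2 : ∑ ψ ∈ threeSet x, (dg ψ : ℤ) * val x ψ = -3 * (threeSet x).card := by
    rw [Finset.sum_congr rfl (g := fun _ => (-3 : ℤ)) fun ψ hψ => by
      obtain ⟨-, a, b⟩ := mem_threeSet.1 hψ
      rw [a, b]; norm_num]
    simp [mul_comm]
  push_cast at h0
  linarith

theorem five_le_weight (h : Hyp G x) {ψ : Cfsg.IrrCharacter G} (hψ : ψ ∈ posSet x) :
    5 ≤ (dg ψ : ℤ) * val x ψ := by
  simp only [posSet, Finset.mem_filter, Finset.mem_univ, true_and] at hψ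
  obtain ⟨h1, h2⟩ := val_pos_iff hψ.1 hψ.2
  have : (1 : ℤ) ≤ val x ψ := by omega
  have : (5 : ℤ) ≤ (dg ψ : ℤ) := by exact_mod_cast h1
  nlinarith

/-- A real and a nonreal one do not coexist. -/
theorem all_or_none (h : Hyp G x) {χ φ : Cfsg.IrrCharacter G} (hχ : Three x χ) (hr : cj χ = χ)
    (hφ : Three x φ) : cj φ = φ := by
  classical
  by_contra hnr
  obtain ⟨W, hW1, hWd, -, hW⟩ := exists_five h hχ hr
  obtain ⟨E, hEd, -, hE⟩ := exists_eight h hφ hnr
  refine norm_mul_ne_one h hχ hφ ?_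
  have hc : (fun g => conj ((φ : G → ℂ) g)) = (cj φ : G → ℂ) := rfl
  have hc' : (fun g => conj ((χ : G → ℂ) g)) = (χ : G → ℂ) := by
    conv_rhs => rw [← hr]
    rfl
  rw [inner_mul_mul, hc', hc, hW, mul_comm (cj φ : G → ℂ), hE]
  have a1 : pr G ≠ E := fun e => by have := hEd; rw [← e, dg_pr] at this; omega
  have a2 : χ ≠ E := fun e => by have := hχ.2.1; rw [e, hEd] at this; omega
  have a3 : W ≠ E := fun e => by rw [e, hEd] at hWd; omega
  simp only [classInner_add_left, classInner_add_right, classInner_irrCharacter, if_pos,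
    if_neg a1, if_neg a2, if_neg a3, if_neg hχ.1, if_neg hW1]
  norm_num

/-- The five is common to all real characters of degree three. -/
theorem five_common (h : Hyp G x) {χ φ : Cfsg.IrrCharacter G} (hχ : Three x χ) (hr : cj χ = χ)
    (hφ : Three x φ) (hr' : cj φ = φ) (hne : χ ≠ φ) :
    ∀ g, (χ : G → ℂ) g * (χ : G → ℂ) g - (χ : G → ℂ) g =
      (φ : G → ℂ) g * (φ : G → ℂ) g - (φ : G → ℂ) g := by
  classical
  obtain ⟨W, hW1, hWd, -, hW⟩ := exists_five h hχ hr
  obtain ⟨V, hV1, hVd, -, hV⟩ := exists_five h hφ hr'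
  have hWV : W = V := by
    by_contra hWV
    refine norm_mul_ne_one h hχ hφ ?_
    have hc : (fun g => conj ((φ : G → ℂ) g)) = (φ : G → ℂ) := by
      conv_rhs => rw [← hr']
      rfl
    have hc' : (fun g => conj ((χ : G → ℂ) g)) = (χ : G → ℂ) := by
      conv_rhs => rw [← hr]
      rfl
    rw [inner_mul_mul, hc', hc, hW, hV]
    have a1 : χ ≠ V := fun e => by have := hχ.2.1; rw [e, hVd] at this; omega
    have a2 : W ≠ φ := fun e => by have := hφ.2.1; rw [← e, hWd] at this; omega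
    simp only [classInner_add_left, classInner_add_right, classInner_irrCharacter, if_pos,
      if_neg hχ.1, if_neg hW1, if_neg (Ne.symm hφ.1), if_neg (Ne.symm hV1), if_neg a1, if_neg a2,
      if_neg hne, if_neg hWV]
    norm_num
  intro g
  have e1 := congrFun hW g
  have e2 := congrFun hV g
  simp only [Pi.mul_apply, Pi.add_apply] at e1 e2
  rw [e1, e2, hWV]; ring

/-- All are real. -/
theorem real_of_three (h : Hyp G x) {χ : Cfsg.IrrCharacter G} (hχ : Three x χ) : cj χ = χ := by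
  classical
  by_contra hnr
  have hall : ∀ φ, Three x φ → cj φ ≠ φ := fun φ hφ hr => hnr (all_or_none h hφ hr hχ)
  obtain ⟨S, hSd, hSv, hS⟩ := exists_six h hχ hnr
  obtain ⟨E, hEd, hEv, hE⟩ := exists_eight h hχ hnr
  have hcc : ∀ φ : Cfsg.IrrCharacter G, cj (cj φ) = φ :=
    fun φ => Subtype.ext (funext fun g => by simp [cj_apply])
  have hex : ∀ φ : Cfsg.IrrCharacter G, Three x φ → φ ≠ χ → ∃ ψ, ψ ∈ posSet x ∧
      Cfsg.classInner ((χ : G → ℂ) * (cj φ : G → ℂ)) (ψ : G → ℂ) ≠ 0 ∧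
      (φ = cj χ → ψ = S) := by
    intro φ hφ hne
    by_cases he : φ = cj χ
    · subst he
      refine ⟨S, ?_, ?_, fun _ => rfl⟩
      · simp only [posSet, Finset.mem_filter, Finset.mem_univ, true_and]
        exact ⟨fun e => by rw [e, dg_pr] at hSd; omega, by omega⟩
      · rw [hcc, hS, classInner_add_left, classInner_irrCharacter, classInner_irrCharacter,
          if_pos rfl, if_neg]
        · norm_num
        · intro e
          have := (hχ.cj h).2.1
          rw [e, hSd] at this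
          omega
    · obtain ⟨ψ, hψ1, hψ5, hψv, hψi, -⟩ := exists_pos h (isCharacter_mul χ (cj φ)) 9 1
        (by simp [hχ.apply_one, (hφ.cj h).apply_one]; norm_num)
        (by simp [hχ.apply_val h, (hφ.cj h).apply_val h]) (by norm_num)
        (inner_mul_eq_zero (by rw [hcc]; exact hne))
      refine ⟨ψ, ?_, hψi, fun e => absurd e he⟩
      simp only [posSet, Finset.mem_filter, Finset.mem_univ, true_and]
      exact ⟨hψ1, by omega⟩
  choose! f hf1 hf2 hf3 using hex
  set T := (threeSet x).erase χ with hT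
  have hmem : ∀ φ ∈ T, Three x φ ∧ φ ≠ χ := fun φ hφ =>
    ⟨mem_threeSet.1 (Finset.mem_of_mem_erase hφ), Finset.ne_of_mem_erase hφ⟩
  have hinj : Set.InjOn f (T : Set (Cfsg.IrrCharacter G)) := by
    intro φ hφ φ' hφ' he
    by_contra hne
    obtain ⟨a1, a2⟩ := hmem φ hφ
    obtain ⟨b1, b2⟩ := hmem φ' hφ'
    have hne0 := classInner_ne_zero_of_common (isCharacter_mul χ (cj φ))
      (isCharacter_mul χ (cj φ')) (f φ) (hf2 φ a1 a2) (he ▸ hf2 φ' b1 b2)
    apply hne0
    have hc : (fun g => conj ((cj φ : G → ℂ) g)) = (φ : G → ℂ) :=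
      funext fun g => by simp [cj_apply]
    rw [inner_mul_mul, show (fun g => conj ((χ : G → ℂ) g)) = (cj χ : G → ℂ) from rfl, hc, hE,
      classInner_add_left, ← classInner_conj_symm _ (pr G : G → ℂ),
      inner_mul_eq_zero (by rw [hcc]; exact Ne.symm hne), map_zero, zero_add]
    by_contra hE0
    rw [← classInner_conj_symm] at hE0
    have hE0' : Cfsg.classInner ((φ : G → ℂ) * (cj φ' : G → ℂ)) (E : G → ℂ) ≠ 0 :=
      fun e => hE0 (by rw [e, map_zero])
    refine small_false h (isCharacter_sub (isCharacter_mul φ (cj φ')) E hE0') 1 ?_ ?_ ?_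
    · simp [ChiFour.apply_one, a1.2.1, (b1.cj h).2.1, hEd]; norm_num
    · simp [apply_x h, a1.2.2, (b1.cj h).2.2, hEv]
    · rw [classInner_sub_left, inner_mul_eq_zero (by rw [hcc]; exact Ne.symm hne),
        classInner_irrCharacter, if_neg (fun e => by rw [e, dg_pr] at hEd; omega), sub_zero]
  have hcard : (T.image f).card = T.card := Finset.card_image_of_injOn hinj
  have hsub : T.image f ⊆ posSet x := by
    intro ψ hψ
    obtain ⟨φ, hφ, rfl⟩ := Finset.mem_image.1 hψ
    exact hf1 φ (hmem φ hφ).1 (hmem φ hφ).2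
  have hS' : S ∈ T.image f := Finset.mem_image.2 ⟨cj χ,
    Finset.mem_erase.2 ⟨hnr, mem_threeSet.2 (hχ.cj h)⟩, hf3 _ (hχ.cj h) hnr rfl⟩
  have h1 : ∑ ψ ∈ T.image f, (dg ψ : ℤ) * val x ψ ≤ ∑ ψ ∈ posSet x, (dg ψ : ℤ) * val x ψ :=
    Finset.sum_le_sum_of_subset_of_nonneg hsub fun ψ hψ _ => by
      have := five_le_weight h hψ; omega
  rw [weight h, ← Finset.add_sum_erase _ _ hS', hSd, hSv] at h1
  have h2 : 5 * ((T.image f).erase S).card ≤
      ∑ ψ ∈ (T.image f).erase S, (dg ψ : ℤ) * val x ψ := by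
    have := Finset.card_nsmul_le_sum ((T.image f).erase S) (fun ψ => (dg ψ : ℤ) * val x ψ) 5
      fun ψ hψ => five_le_weight h (hsub (Finset.mem_of_mem_erase hψ))
    simpa [mul_comm] using this
  have h3 : ((T.image f).erase S).card + 2 = (threeSet x).card := by
    rw [Finset.card_erase_of_mem hS', hcard, hT, Finset.card_erase_of_mem (mem_threeSet.2 hχ)]
    have : 1 < (threeSet x).card := Finset.one_lt_card.2
      ⟨χ, mem_threeSet.2 hχ, cj χ, mem_threeSet.2 (hχ.cj h), Ne.symm hnr⟩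
    omega
  push_cast at h1
  omega

end Cfsg.Agent.H2.ChiFour
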