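import Cfsg.Agent.H2.ChiFour.Structure
import Cfsg.Agent.H2.ChiFour.CoverFive

/-!
# Groups with `χ(1) - χ(u) = 4` or `χ(u) = 0`: the odd core and the quotient by it
-/

set_option linter.style.haveILetI false

namespace Cfsg.Agent.H2.ChiFour

open CharBasic BlockBasic

universe u

variable {G : Type u} [Group G] [Fintype G] {x : G}

omit [Fintype G] in
/-- The odd core lies in the kernel of every epimorphism onto the alternating group. -/
theorem oddCore_le_ker [Finite G] {q : G →* alternatingGroup (Fin 5)} (hq : Function.Surjective q) :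
    Cfsg.oddCore G ≤ q.ker := by
  haveI : ((Cfsg.oddCore G).map q).Normal := Subgroup.Normal.map inferInstance q hq
  rcases Subgroup.Normal.eq_bot_or_eq_top ‹((Cfsg.oddCore G).map q).Normal› with e | e
  · exact (Subgroup.map_eq_bot_iff _).1 e
  · exfalso
    have h1 : Odd (Nat.card ((Cfsg.oddCore G).map q)) :=
      (Cores.odd_card_oddCore (G := G)).of_dvd_nat (Subgroup.card_map_dvd _ _)
    rw [e, Subgroup.card_top, card_alt_five] at h1
    exact absurd h1 (by decide)

omit [Fintype G] in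
/-- An element whose square centralises a subgroup and which acts without fixed points inverts it. -/
theorem inverts [Finite G] {P : Subgroup G} {v : G} (hPv : ∀ d ∈ P, v * d * v⁻¹ ∈ P)
    (hvv : ∀ d ∈ P, v * v * d = d * (v * v)) (hfix : ∀ d ∈ P, v * d = d * v → d = 1) :
    ∀ d ∈ P, v * d * v⁻¹ = d⁻¹ := by
  let f : P → P := fun d => ⟨(d : G)⁻¹ * (v * d * v⁻¹), P.mul_mem (P.inv_mem d.2) (hPv d d.2)⟩
  have hinj : Function.Injective f := by
    intro a b hab
    have h : (a : G)⁻¹ * (v * a * v⁻¹) = (b : G)⁻¹ * (v * b * v⁻¹) := congrArg Subtype.val hab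
    have h1 : v * ((a : G) * (b : G)⁻¹) * v⁻¹ = (a : G) * (b : G)⁻¹ := by
      calc v * ((a : G) * (b : G)⁻¹) * v⁻¹
          = a * ((a : G)⁻¹ * (v * a * v⁻¹)) * ((b : G)⁻¹ * (v * b * v⁻¹))⁻¹ * (b : G)⁻¹ := by group
        _ = (a : G) * (b : G)⁻¹ := by rw [h]; group
    have h2 := hfix _ (P.mul_mem a.2 (P.inv_mem b.2)) (mul_inv_eq_iff_eq_mul.mp h1)
    exact Subtype.ext (mul_inv_eq_one.mp h2)
  intro d hd
  obtain ⟨e, he⟩ := (Finite.injective_iff_surjective.mp hinj) ⟨d, hd⟩
  have he' : (e : G)⁻¹ * (v * e * v⁻¹) = d := congrArg Subtype.val he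
  rw [← he']
  calc v * ((e : G)⁻¹ * (v * e * v⁻¹)) * v⁻¹
      = (v * (e : G)⁻¹ * v⁻¹) * (v * v * e * (v * v)⁻¹) := by group
    _ = ((e : G)⁻¹ * (v * e * v⁻¹))⁻¹ := by rw [hvv e e.2]; group

omit [Fintype G] in
theorem eq_one_of_odd_of_dvd {g : G} {n : ℕ} (hn : Odd n) {k : ℕ} (h1 : orderOf g ∣ n)
    (h2 : orderOf g ∣ 2 ^ k) : g = 1 := by
  have h3 := Nat.dvd_gcd h1 h2
  rw [show Nat.gcd n (2 ^ k) = 1 from (Nat.coprime_two_right.2 hn).pow_right k] at h3
  exact orderOf_eq_one_iff.1 (Nat.eq_one_of_dvd_one h3)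

theorem core_involution (h : Hyp G x) (hxx : x * x = 1) :
    Cfsg.oddCore G = ⊥ ∧ Nonempty (G ≃* alternatingGroup (Fin 5)) ∧ orderOf x = 2 := by
  obtain ⟨q, hq, -, -, hinj⟩ := exists_hom h
  refine ⟨?_, ⟨MulEquiv.ofBijective q ⟨hinj hxx, hq⟩⟩, orderOf_eq_prime (by rwa [pow_two]) h.1⟩
  exact eq_bot_iff.2 ((oddCore_le_ker hq).trans (by rw [(MonoidHom.ker_eq_bot_iff q).2 (hinj hxx)]))

theorem core_four (h : Hyp G x) (hxx : x * x ≠ 1) :
    (∀ a ∈ Cfsg.oddCore G, ∀ b ∈ Cfsg.oddCore G, a * b = b * a) ∧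
      Nonempty (G ⧸ Cfsg.oddCore G ≃* Matrix.SpecialLinearGroup (Fin 2) (ZMod 5)) ∧
      orderOf x = 4 := by
  classical
  obtain ⟨q, hq, hx2, hinv, -⟩ := exists_hom h
  obtain ⟨hker4, v, hvz, hv2, hxv2⟩ := not_four_dvd_ker h hxx hq hx2 hinv
  have hz2 := orderOf_z h hxx
  have hzK := z_mem_ker hx2
  set z := x * x with hz
  have hzz : z * z = 1 := by rw [← pow_two, ← hz2, pow_orderOf_eq_one]
  have hx4 : orderOf x = 4 := by
    have h1 := orderOf_pow' x (show (2 : ℕ) ≠ 0 by norm_num)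
    rw [pow_two, ← hz, hz2] at h1
    have h2 := orderOf_dvd_four h
    have := Nat.le_of_dvd (by norm_num) h2
    interval_cases hox : orderOf x <;> first | rfl | (revert h1 h2; norm_num)
  set K := q.ker with hK
  obtain ⟨m, hm, hKm⟩ : ∃ m, Odd m ∧ Nat.card K = 2 * m := by
    obtain ⟨m, hm⟩ : 2 ∣ Nat.card K := hz2 ▸ K.orderOf_dvd_natCard hzK
    refine ⟨m, ?_, hm⟩
    rcases Nat.even_or_odd m with ⟨j, hj⟩ | ho
    · exact absurd (⟨j, by omega⟩ : 4 ∣ Nat.card K) hker4
    · exact ho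
  obtain ⟨M, -, hM2⟩ := H65.DihedralAltSix.exists_index_two hm hKm
  have hMc : Nat.card M = m := by
    have := M.card_mul_index
    rw [hM2, hKm] at this
    omega
  set O := M.map K.subtype with hO
  have hOc : Nat.card O = m := by
    rw [hO, Subgroup.card_map_of_injective K.subtype_injective, hMc]
  have hOK : O ≤ K := Subgroup.map_subtype_le _
  have hodd_mem : ∀ g ∈ K, Odd (orderOf g) → g ∈ O := by
    intro g hg ho
    obtain ⟨j, hj⟩ := ho
    refine ⟨⟨g, hg⟩, ?_, rfl⟩
    have e : (⟨g, hg⟩ : K) = ((⟨g, hg⟩ : K) ^ 2) ^ (j + 1) := by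
      apply Subtype.ext
      rw [Subgroup.coe_pow, Subgroup.coe_pow, ← pow_mul,
        show 2 * (j + 1) = orderOf g + 1 by omega, pow_succ, pow_orderOf_eq_one, one_mul]
    rw [SetLike.mem_coe, e]
    exact M.pow_mem (Subgroup.sq_mem_of_index_two hM2 _) _
  have hOodd : ∀ g ∈ O, Odd (orderOf g) := fun g hg =>
    hm.of_dvd_nat (hOc ▸ O.orderOf_dvd_natCard hg)
  haveI hOn : O.Normal := ⟨fun g hg a => by
    refine hodd_mem _ ((MonoidHom.normal_ker q).conj_mem g (hOK hg) a) ?_
    have := hOodd g hg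
    rwa [← MulAut.conj_apply, MulEquiv.orderOf_eq]⟩
  have hcore : Cfsg.oddCore G = O := by
    refine le_antisymm (fun g hg => hodd_mem g (oddCore_le_ker hq hg) ?_) (Cores.le_oddCore (hOc ▸ hm))
    exact (Cores.odd_card_oddCore (G := G)).of_dvd_nat (Subgroup.orderOf_dvd_natCard _ hg)
  have hzO : z ∉ O := fun hh => by
    have := hOodd z hh
    rw [hz2] at this
    exact absurd this (by decide)
  have hKO : ∀ g ∈ K, g ∈ O ∨ g * z ∈ O := by
    intro g hg
    by_cases hgM : (⟨g, hg⟩ : K) ∈ M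
    · exact Or.inl ⟨_, hgM, rfl⟩
    · refine Or.inr ⟨⟨g, hg⟩ * ⟨z, hzK⟩, ?_, rfl⟩
      have hzM : (⟨z, hzK⟩ : K) ∉ M := fun hh => hzO ⟨_, hh, rfl⟩
      rw [SetLike.mem_coe, Subgroup.mul_mem_iff_of_index_two hM2]
      exact iff_of_false hgM hzM
  -- the squares of the elements mapping to involutions
  have hsqconj : ∀ a : G, orderOf (q a) = 2 → IsConj z (a * a) := by
    intro a ha
    obtain ⟨c, rfl⟩ := isConj_iff.1 (hinv a ha)
    exact isConj_iff.2 ⟨c, by rw [hz]; group⟩
  refine ⟨?_, ?_, hx4⟩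
  · rw [hcore]
    set W := O ⊓ Subgroup.centralizer ({z} : Set G) with hW
    have hWmem : ∀ d, d ∈ W ↔ d ∈ O ∧ d * z = z * d := fun d => by
      rw [hW, Subgroup.mem_inf, Subgroup.mem_centralizer_singleton_iff]
    have hsq : ∀ a : G, orderOf (q a) = 2 → a * z = z * a → a * a = z := by
      intro a ha haz
      have hc := hsqconj a ha
      have ho : orderOf (a * a) = 2 := by
        obtain ⟨c, hc'⟩ := isConj_iff.1 hc
        rw [← hc', ← MulAut.conj_apply, MulEquiv.orderOf_eq, hz2]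
      have haK : a * a ∈ K := by
        rw [hK, MonoidHom.mem_ker, map_mul, ← pow_two, ← ha, pow_orderOf_eq_one]
      rcases hKO _ haK with e | e
      · have := hOodd _ e
        rw [ho] at this
        exact absurd this (by decide)
      · have hd : orderOf (a * a * z) ∣ 2 := by
          refine orderOf_dvd_of_pow_eq_one ?_
          have hcm : Commute (a * a) z := Commute.mul_left haz haz
          rw [hcm.mul_pow, pow_two, pow_two, hzz, mul_one, ← pow_two, ← ho, pow_orderOf_eq_one]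
        have h1 := eq_one_of_odd_of_dvd (k := 1) (hOodd _ e) dvd_rfl (by simpa using hd)
        rw [eq_inv_of_mul_eq_one_left h1, ← eq_inv_of_mul_eq_one_left hzz]
    have hinvW : ∀ a : G, orderOf (q a) = 2 → a * z = z * a → ∀ d ∈ W, a * d * a⁻¹ = d⁻¹ := by
      intro a ha haz
      refine inverts (fun d hd => ?_) (fun d hd => ?_) fun d hd hcomm => ?_
      · rw [hWmem] at hd ⊢
        refine ⟨hOn.conj_mem d hd.1 a, ?_⟩
        have c1 : Commute a z := haz
        have c2 : Commute d z := hd.2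
        exact ((c1.mul_left c2).mul_left c1.inv_left).eq
      · rw [hsq a ha haz]
        exact ((hWmem d).1 hd).2.symm
      · have h1 := Subgroup.orderOf_dvd_natCard (Subgroup.centralizer ({a} : Set G))
          (Subgroup.mem_centralizer_singleton_iff.2 hcomm.symm)
        rw [card_centralizer_of h hinv a ha] at h1
        exact eq_one_of_odd_of_dvd (k := 2) (hOodd d ((hWmem d).1 hd).1) dvd_rfl h1
    have hxz : x * z = z * x := by rw [hz, mul_assoc]
    have hWbot : ∀ d ∈ W, d = 1 := by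
      intro d hd
      have e1 := hinvW v hv2 hvz d hd
      have e2 := hinvW x hx2 hxz d⁻¹ (W.inv_mem hd)
      have e3 := hinvW (x * v) hxv2 (Commute.mul_left hxz hvz) d hd
      have e4 : x * v * d * (x * v)⁻¹ = x * (v * d * v⁻¹) * x⁻¹ := by group
      rw [e4, e1, e2, inv_inv] at e3
      refine eq_one_of_odd_of_dvd (k := 1) (hOodd d ((hWmem d).1 hd).1) dvd_rfl ?_
      exact orderOf_dvd_of_pow_eq_one (by rw [pow_one, pow_two]; exact mul_eq_one_iff_eq_inv.2 e3)
    have hzO' := inverts (P := O) (v := z) (fun d hd => hOn.conj_mem d hd z)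
      (fun d _ => by rw [hzz, one_mul, mul_one])
      (fun d hd hc => hWbot d ((hWmem d).2 ⟨hd, hc.symm⟩))
    intro a ha b hb
    have h1 := hzO' _ (O.mul_mem ha hb)
    have h2 : z * (a * b) * z⁻¹ = a⁻¹ * b⁻¹ := by
      calc z * (a * b) * z⁻¹ = (z * a * z⁻¹) * (z * b * z⁻¹) := by group
        _ = a⁻¹ * b⁻¹ := by rw [hzO' a ha, hzO' b hb]
    have h3 := congrArg (·⁻¹) (h1.symm.trans h2)
    simpa using h3
  · refine Nonempty.map (fun i => (QuotientGroup.quotientMulEquivOfEq hcore).trans i) ?_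
    let q' : G ⧸ O →* alternatingGroup (Fin 5) := QuotientGroup.lift O q hOK
    have hker : ∀ a : G ⧸ O, q' a = 1 → a = 1 ∨ a = (z : G ⧸ O) := by
      intro a
      induction a using QuotientGroup.induction_on with | _ g =>
      intro hg
      rcases hKO g hg with e | e
      · exact Or.inl ((QuotientGroup.eq_one_iff g).2 e)
      · have h1 : (g : G ⧸ O) * (z : G ⧸ O) = 1 := by
          rw [← QuotientGroup.mk_mul]; exact (QuotientGroup.eq_one_iff _).2 e
        refine Or.inr ((eq_inv_of_mul_eq_one_left h1).trans (eq_inv_of_mul_eq_one_left ?_).symm)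
        rw [← QuotientGroup.mk_mul, hzz, QuotientGroup.mk_one]
    have hzbar : (z : G ⧸ O) ≠ 1 := fun e => hzO ((QuotientGroup.eq_one_iff z).1 e)
    have hqz : q' (z : G ⧸ O) = 1 := hzK
    have hconj : ∀ a : G ⧸ O, a * (z : G ⧸ O) * a⁻¹ = (z : G ⧸ O) := fun a => by
      rcases hker (a * (z : G ⧸ O) * a⁻¹) (by rw [map_mul, map_mul, hqz, map_inv, mul_one, mul_inv_cancel])
        with e | e
      · exact absurd (conj_eq_one_iff.1 e) hzbar
      · exact e
    refine equiv_SL25 q' (z : G ⧸ O) ?_ hqz (fun a => mul_inv_eq_iff_eq_mul.1 (hconj a)) hker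
      (fun a => ?_) ?_ ?_
    · rw [pow_two, ← QuotientGroup.mk_mul, hzz, QuotientGroup.mk_one]
    · induction a using QuotientGroup.induction_on with | _ g =>
      intro hg
      obtain ⟨c, hc⟩ := isConj_iff.1 (hsqconj g hg)
      rw [← QuotientGroup.mk_mul, ← hc, QuotientGroup.mk_mul, QuotientGroup.mk_mul, QuotientGroup.mk_inv]
      exact hconj _
    · intro a
      obtain ⟨g, rfl⟩ := hq a
      exact ⟨(g : G ⧸ O), rfl⟩
    · have h1 := O.card_mul_index
      rw [hOc, Subgroup.index_eq_card, card_eq hq, hKm] at h1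
      exact Nat.eq_of_mul_eq_mul_left hm.pos (h1.trans (by ring))

end Cfsg.Agent.H2.ChiFour
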