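import Cfsg.Agent.H2.ChiFour.Column
import Cfsg.Agent.H83.ClassConst

/-!
# The centraliser has order four; the class multiplication constants
-/

open scoped ComplexConjugate

namespace Cfsg.Agent.H2.ChiFour

open CharBasic BlockBasic

universe u

variable {G : Type u} [Group G] [Fintype G] {x : G}

theorem apply_eq_re {χ : Cfsg.IrrCharacter G} (hr : cj χ = χ) (g : G) :
    (χ : G → ℂ) g = (((χ : G → ℂ) g).re : ℂ) := by
  have h1 : conj ((χ : G → ℂ) g) = (χ : G → ℂ) g := by
    conv_rhs => rw [← hr]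
    rfl
  exact (Complex.conj_eq_iff_re.1 h1).symm

/-- Moments of a real character of degree three. -/
theorem sum_quart (h : Hyp G x) {χ : Cfsg.IrrCharacter G} (hχ : Three x χ) :
    ∑ g : G, quart ((χ : G → ℂ) g).re = 2 * (Nat.card G : ℝ) := by
  classical
  have hr := real_of_three h hχ
  obtain ⟨W, hW1, hWd, -, hW⟩ := exists_five h hχ hr
  have a : χ ≠ W := fun e => by have := hχ.2.1; rw [e, hWd] at this; omega
  have hc : (fun g => conj ((χ : G → ℂ) g)) = (χ : G → ℂ) := by
    conv_rhs => rw [← hr]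
    rfl
  have h2 : Cfsg.classInner (χ : G → ℂ) (χ : G → ℂ) = 1 := classInner_irr_self χ.2
  have h3 : Cfsg.classInner ((χ : G → ℂ) * (χ : G → ℂ)) (χ : G → ℂ) = 1 := by
    rw [hW]
    simp only [classInner_add_left, classInner_irrCharacter, if_pos, if_neg (Ne.symm hχ.1),
      if_neg (Ne.symm a)]
    norm_num
  have h4 : Cfsg.classInner ((χ : G → ℂ) * (χ : G → ℂ)) ((χ : G → ℂ) * (χ : G → ℂ)) = 3 := by
    rw [hW]
    simp only [classInner_add_left, classInner_add_right, classInner_irrCharacter, if_pos,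
      if_neg hχ.1, if_neg (Ne.symm hχ.1), if_neg a, if_neg (Ne.symm a), if_neg hW1,
      if_neg (Ne.symm hW1)]
    norm_num
  have hG : (Nat.card G : ℂ) ≠ 0 := by simp [Nat.card_pos.ne']
  rw [classInner_def, inv_mul_eq_iff_eq_mul₀ hG] at h2 h3 h4
  simp only [Pi.mul_apply, map_mul] at h2 h3 h4
  apply Complex.ofReal_injective
  push_cast [quart]
  simp only [← apply_eq_re hr, Finset.sum_add_distrib, Finset.sum_neg_distrib, ← Finset.mul_sum]
  have e : ∀ g, conj ((χ : G → ℂ) g) = (χ : G → ℂ) g := fun g => congrFun hc g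
  simp only [e] at h2 h3 h4
  simp only [pow_succ, pow_zero, one_mul]
  simp only [mul_assoc] at h2 h3 h4 ⊢
  rw [h2, h3, h4]
  ring

theorem sum_sq_diff (h : Hyp G x) {χ φ : Cfsg.IrrCharacter G} (hχ : Three x χ) (hφ : Three x φ)
    (hne : χ ≠ φ) :
    ∑ g : G, (((χ : G → ℂ) g).re - ((φ : G → ℂ) g).re) ^ 2 = 2 * (Nat.card G : ℝ) := by
  classical
  have hr := real_of_three h hχ
  have hr' := real_of_three h hφ
  have h1 : Cfsg.classInner ((χ : G → ℂ) - (φ : G → ℂ)) ((χ : G → ℂ) - (φ : G → ℂ)) = 2 := by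
    simp only [classInner_sub_left, classInner_sub_right, classInner_irrCharacter, if_pos,
      if_neg hne, if_neg (Ne.symm hne)]
    norm_num
  have hG : (Nat.card G : ℂ) ≠ 0 := by simp [Nat.card_pos.ne']
  rw [classInner_def, inv_mul_eq_iff_eq_mul₀ hG] at h1
  apply Complex.ofReal_injective
  push_cast
  rw [mul_comm, ← h1]
  refine Finset.sum_congr rfl fun g _ => ?_
  rw [← apply_eq_re hr, ← apply_eq_re hr', Pi.sub_apply, map_sub,
    show conj ((χ : G → ℂ) g) = (χ : G → ℂ) g by conv_rhs => rw [← hr]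
                                                 rfl,
    show conj ((φ : G → ℂ) g) = (φ : G → ℂ) g by conv_rhs => rw [← hr']
                                                 rfl]
  ring

/-- There are no three characters of degree three with value `-1`. -/
theorem not_three (h : Hyp G x) {χ φ ψ : Cfsg.IrrCharacter G} (hχ : Three x χ) (hφ : Three x φ)
    (hψ : Three x ψ) (h1 : χ ≠ φ) (h2 : χ ≠ ψ) (h3 : φ ≠ ψ) : False := by
  let r : Cfsg.IrrCharacter G → G → ℝ := fun c g => ((c : G → ℂ) g).re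
  have hsq : ∀ c, Three x c → ∀ g, r c (g * g) = r c g ^ 2 - 2 * r c g := by
    intro c hc g
    have hr := real_of_three h hc
    have e := apply_sq (perfect h) (IsIrr.isCharacter c.2) hc.apply_one g
    rw [show conj ((c : G → ℂ) g) = (c : G → ℂ) g by conv_rhs => rw [← hr]
                                                     rfl] at e
    show ((c : G → ℂ) (g * g)).re = _
    rw [e, apply_eq_re hr g]
    simp [r, sq]
  have hQ : ∀ c d, Three x c → Three x d → c ≠ d → ∀ g, r c g ^ 2 - r c g = r d g ^ 2 - r d g := by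
    intro c d hc hd hne g
    have hr := real_of_three h hc
    have hr' := real_of_three h hd
    have e := congrArg Complex.re (five_common h hc hr hd hr' hne g)
    rw [apply_eq_re hr g, apply_eq_re hr' g] at e
    simpa [r, sq] using e
  have hb : ∀ c, Three x c → ∀ g, -1 ≤ r c g ∧ r c g ≤ 3 := fun c hc g =>
    real_bounds (perfect h) (IsIrr.isCharacter c.2) hc.apply_one g (by
      conv_rhs => rw [← real_of_three h hc]
      rfl)
  have hpt : ∀ g, (r χ g - r φ g) ^ 2 + (r φ g - r ψ g) ^ 2 + (r χ g - r ψ g) ^ 2 ≤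
      quart (r χ g) + quart (r φ g) + quart (r ψ g) ∧
      (quart (r χ g) + quart (r φ g) + quart (r ψ g) =
        (r χ g - r φ g) ^ 2 + (r φ g - r ψ g) ^ 2 + (r χ g - r ψ g) ^ 2 → r χ g = r φ g) := by
    intro g
    have s1 := hQ χ φ hχ hφ h1 (g * g)
    have s2 := hQ χ ψ hχ hψ h2 (g * g)
    rw [hsq χ hχ g, hsq φ hφ g] at s1
    rw [hsq χ hχ g, hsq ψ hψ g] at s2
    exact three_values (hb χ hχ g).1 (hb χ hχ g).2 (hb φ hφ g).1 (hb φ hφ g).2 (hb ψ hψ g).1
      (hb ψ hψ g).2 (hQ χ φ hχ hφ h1 g) (hQ χ ψ hχ hψ h2 g) s1 s2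
  have htot : ∑ g : G, ((r χ g - r φ g) ^ 2 + (r φ g - r ψ g) ^ 2 + (r χ g - r ψ g) ^ 2) =
      ∑ g : G, (quart (r χ g) + quart (r φ g) + quart (r ψ g)) := by
    simp only [Finset.sum_add_distrib, r, sum_quart h hχ, sum_quart h hφ, sum_quart h hψ,
      sum_sq_diff h hχ hφ h1, sum_sq_diff h hφ hψ h3, sum_sq_diff h hχ hψ h2]
  have heq : ∀ g, r χ g = r φ g := fun g =>
    (hpt g).2 ((Finset.sum_eq_sum_iff_of_le fun g _ => (hpt g).1).1 htot g (Finset.mem_univ g)).symm
  refine h1 (Subtype.ext (funext fun g => ?_))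
  rw [apply_eq_re (real_of_three h hχ) g, apply_eq_re (real_of_three h hφ) g]
  exact_mod_cast heq g

/-- The four nonzero entries of the column. -/
theorem exists_column (h : Hyp G x) :
    ∃ χ φ W : Cfsg.IrrCharacter G, Three x χ ∧ Three x φ ∧ χ ≠ φ ∧ W ≠ pr G ∧ dg W = 5 ∧
      val x W = 1 ∧ (χ : G → ℂ) * (χ : G → ℂ) = (pr G : G → ℂ) + (χ : G → ℂ) + (W : G → ℂ) ∧
      ∀ ψ : Cfsg.IrrCharacter G, val x ψ ≠ 0 → ψ = pr G ∨ ψ = χ ∨ ψ = φ ∨ ψ = W := by
  classical
  have hw := weight h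
  have hpos : 0 ≤ ∑ ψ ∈ posSet x, (dg ψ : ℤ) * val x ψ :=
    Finset.sum_nonneg fun ψ hψ => by have := five_le_weight h hψ; omega
  have hne : (threeSet x).Nonempty := Finset.card_pos.1 (by omega)
  obtain ⟨χ, hχ'⟩ := hne
  have hχ := mem_threeSet.1 hχ'
  obtain ⟨W, hW1, hWd, hWv, hW⟩ := exists_five h hχ (real_of_three h hχ)
  have hWmem : W ∈ posSet x := by
    simp only [posSet, Finset.mem_filter, Finset.mem_univ, true_and]
    exact ⟨hW1, by omega⟩
  rw [← Finset.add_sum_erase _ _ hWmem, hWd, hWv] at hw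
  have hk : (threeSet x).card ≤ 2 := by
    by_contra hlt
    push Not at hlt
    obtain ⟨a, ha, b, hb, c, hc, hab, hac, hbc⟩ := Finset.two_lt_card.1 hlt
    exact not_three h (mem_threeSet.1 ha) (mem_threeSet.1 hb) (mem_threeSet.1 hc) hab hac hbc
  have hrest : 0 ≤ ∑ ψ ∈ (posSet x).erase W, (dg ψ : ℤ) * val x ψ :=
    Finset.sum_nonneg fun ψ hψ => by
      have := five_le_weight h (Finset.mem_of_mem_erase hψ); omega
  push_cast at hw
  have hk2 : (threeSet x).card = 2 := by omega
  have hempty : (posSet x).erase W = ∅ := by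
    by_contra he
    obtain ⟨ψ, hψ⟩ := Finset.nonempty_of_ne_empty he
    have h5 := Finset.single_le_sum (f := fun ψ => (dg ψ : ℤ) * val x ψ)
      (fun a ha => by have := five_le_weight h (Finset.mem_of_mem_erase ha); omega) hψ
    have := five_le_weight h (Finset.mem_of_mem_erase hψ)
    omega
  obtain ⟨φ, hφ, hφne⟩ := Finset.exists_mem_ne (by omega : 1 < (threeSet x).card) χ
  refine ⟨χ, φ, W, hχ, mem_threeSet.1 hφ, Ne.symm hφne, hW1, hWd, hWv, hW, fun ψ hψ => ?_⟩
  by_cases h1 : ψ = pr G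
  · exact Or.inl h1
  right
  rcases val_cases h h1 with h0 | h3 | ⟨-, -, hp⟩
  · exact absurd h0 hψ
  · by_contra hc
    push Not at hc
    have hsub : ({χ, φ, ψ} : Finset _) ⊆ threeSet x := by
      intro a ha
      simp only [Finset.mem_insert, Finset.mem_singleton] at ha
      rcases ha with rfl | rfl | rfl
      · exact hχ'
      · exact hφ
      · exact mem_threeSet.2 ⟨h1, h3⟩
    have := Finset.card_le_card hsub
    rw [Finset.card_eq_three.2 ⟨χ, φ, ψ, Ne.symm hφne, Ne.symm hc.1, Ne.symm hc.2.1, rfl⟩] at this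
    omega
  · right; right
    by_contra hne'
    have hm : ψ ∈ (posSet x).erase W := Finset.mem_erase.2 ⟨hne', by
      simp only [posSet, Finset.mem_filter, Finset.mem_univ, true_and]; exact ⟨h1, hp⟩⟩
    rw [hempty] at hm
    simp at hm

/-- Sums against the column only see four characters. -/
theorem sum_column (h : Hyp G x) {χ φ W : Cfsg.IrrCharacter G} (hχ : Three x χ) (hφ : Three x φ)
    (hne : χ ≠ φ) (hW1 : W ≠ pr G) (hWd : dg W = 5)
    (hs : ∀ ψ : Cfsg.IrrCharacter G, val x ψ ≠ 0 → ψ = pr G ∨ ψ = χ ∨ ψ = φ ∨ ψ = W)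
    (F : Cfsg.IrrCharacter G → ℂ) (hF : ∀ ψ : Cfsg.IrrCharacter G, val x ψ = 0 → F ψ = 0) :
    ∑ ψ, F ψ = F (pr G) + F χ + F φ + F W := by
  classical
  have a1 : χ ≠ W := fun e => by have := hχ.2.1; rw [e, hWd] at this; omega
  have a2 : φ ≠ W := fun e => by have := hφ.2.1; rw [e, hWd] at this; omega
  rw [← Finset.sum_subset (Finset.subset_univ ({pr G, χ, φ, W} : Finset _)) fun ψ _ hψ => hF ψ (by
    by_contra hv
    rcases hs ψ hv with e | e | e | e <;> simp [e] at hψ)]
  rw [Finset.sum_insert (by simp [Ne.symm hχ.1, Ne.symm hφ.1, Ne.symm hW1]),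
    Finset.sum_insert (by simp [hne, a1]), Finset.sum_insert (by simp [a2]), Finset.sum_singleton]
  ring

theorem card_centralizer (h : Hyp G x) :
    Nat.card (Subgroup.centralizer ({x} : Set G)) = 4 := by
  obtain ⟨χ, φ, W, hχ, hφ, hne, hW1, hWd, hWv, -, hs⟩ := exists_column h
  have h1 := second_orthogonality_self x
  rw [sum_column h hχ hφ hne hW1 hWd hs _ fun ψ h0 => by simp [apply_x h, h0]] at h1
  simp only [apply_x h, val_pr, hχ.2.2, hφ.2.2, hWv, map_intCast] at h1
  norm_num at h1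
  exact_mod_cast h1.symm

theorem index_centralizer (h : Hyp G x) :
    (Subgroup.centralizer ({x} : Set G)).index * 4 = Nat.card G := by
  have := H83.classSize_mul_centralizer x
  rwa [card_centralizer h] at this

/-- The number of factorisations into two conjugates. -/
theorem card_pairs (h : Hyp G x) :
    30 * Nat.card {a : G // IsConj x a ∧ IsConj x (a⁻¹ * x)} = Nat.card G ∧
      4 * Nat.card {a : G // IsConj x a ∧ IsConj x (a⁻¹ * (x * x))} = Nat.card G := by
  obtain ⟨χ, φ, W, hχ, hφ, hne, hW1, hWd, hWv, hW, hs⟩ := exists_column h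
  have hidx : ((Subgroup.centralizer ({x} : Set G)).index : ℂ) * 4 = (Nat.card G : ℂ) := by
    exact_mod_cast index_centralizer h
  have hG : (Nat.card G : ℂ) ≠ 0 := by simp [Nat.card_pos.ne']
  have hz : ∀ ψ : Cfsg.IrrCharacter G, ∀ y : G, val x ψ = 0 →
      conj ((ψ : G → ℂ) x) * conj ((ψ : G → ℂ) x) * (ψ : G → ℂ) y / (ψ : G → ℂ) 1 = 0 :=
    fun ψ y h0 => by simp [apply_x h, h0]
  have e3 : ∀ c, Three x c → (c : G → ℂ) (x * x) = 3 := fun c hc => by
    rw [apply_sq (perfect h) (IsIrr.isCharacter c.2) hc.apply_one x, hc.apply_val h, map_neg, map_one]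
    norm_num
  have e5 : (W : G → ℂ) (x * x) = 5 := by
    have e := congrFun hW (x * x)
    simp only [Pi.mul_apply, Pi.add_apply, e3 χ hχ, pr] at e
    linear_combination -e
  constructor
  · have h1 := H83.card_pairs_mul_card x x x
    generalize hN : Nat.card {a : G // IsConj x a ∧ IsConj x (a⁻¹ * x)} = M at h1 ⊢
    rw [sum_column h hχ hφ hne hW1 hWd hs _ fun ψ h0 => hz ψ x h0] at h1
    simp only [apply_x h, val_pr, hχ.2.2, hφ.2.2, hWv, map_intCast, ChiFour.apply_one, dg_pr,
      hχ.2.1, hφ.2.1, hWd] at h1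
    norm_num [-Nat.card_eq_fintype_card] at h1
    have : (30 : ℂ) * M = (Nat.card G : ℂ) := by
      refine mul_left_cancel₀ hG ?_
      linear_combination 30 * h1 + ((Subgroup.centralizer ({x} : Set G)).index * 4 + (Nat.card G : ℂ)) * hidx
    exact_mod_cast this
  · have h1 := H83.card_pairs_mul_card x x (x * x)
    have e1 : ((pr G : Cfsg.IrrCharacter G) : G → ℂ) (x * x) = 1 := rfl
    generalize hN : Nat.card {a : G // IsConj x a ∧ IsConj x (a⁻¹ * (x * x))} = M at h1 ⊢
    rw [sum_column h hχ hφ hne hW1 hWd hs _ fun ψ h0 => hz ψ (x * x) h0, e3 χ hχ, e3 φ hφ, e5] at h1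
    simp only [apply_x h, val_pr, hχ.2.2, hφ.2.2, hWv, map_intCast, ChiFour.apply_one, dg_pr,
      hχ.2.1, hφ.2.1, hWd, e1] at h1
    norm_num [-Nat.card_eq_fintype_card] at h1
    have : (4 : ℂ) * M = (Nat.card G : ℂ) := by
      refine mul_left_cancel₀ hG ?_
      linear_combination 4 * h1 + ((Subgroup.centralizer ({x} : Set G)).index * 4 + (Nat.card G : ℂ)) * hidx
    exact_mod_cast this

/-- There is a character of degree three with value `-1`. -/
theorem exists_three (h : Hyp G x) : ∃ χ : Cfsg.IrrCharacter G, Three x χ := by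
  obtain ⟨χ, -, -, hχ, -⟩ := exists_column h
  exact ⟨χ, hχ⟩

end Cfsg.Agent.H2.ChiFour
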