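import Cfsg.Agent.CharBasic.Complete
import Cfsg.Agent.CharBasic.Virtual
import Cfsg.Agent.CharBasic.Kernel
import Cfsg.Agent.CharInduce.Ops
import Cfsg.Agent.BlockBasic.Basic
import Mathlib.LinearAlgebra.CrossProduct

/-!
# Characters of degree three of perfect groups

Eigenvalue identities coming from determinant one, and the occurrence of the dual in the square.
-/

open scoped ComplexConjugate TensorProduct

namespace Cfsg.Agent.H2.ChiFour

open CharBasic Module Matrix

universe u

variable {G : Type u} [Group G]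

theorem det_eq_one_of_perfect (hperf : commutator G = ⊤) {n : ℕ}
    (ρ : Representation ℂ G (Fin n → ℂ)) (g : G) : LinearMap.det (ρ g) = 1 := by
  let f : G →* ℂˣ := ((LinearMap.det : Module.End ℂ (Fin n → ℂ) →* ℂ).comp ρ).toHomUnits
  have h : commutator G ≤ f.ker := Abelianization.commutator_subset_ker f
  rw [hperf] at h
  have hg : f g = 1 := MonoidHom.mem_ker.1 (h (Subgroup.mem_top g))
  exact congrArg (Units.val) hg

variable [Finite G]

theorem exists_eigen_three (hperf : commutator G = ⊤) {χ : G → ℂ} (hχ : Cfsg.IsCharacter G χ)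
    (h1 : χ 1 = 3) (g : G) :
    ∃ a b c : ℂ, a ^ orderOf g = 1 ∧ b ^ orderOf g = 1 ∧ c ^ orderOf g = 1 ∧ a * b * c = 1 ∧
      χ g = a + b + c ∧ χ (g * g) = a * a + b * b + c * c := by
  obtain ⟨n, ρ, rfl⟩ := hχ
  have hn : n = 3 := by
    rw [Representation.char_one, Module.finrank_fin_fun] at h1
    exact_mod_cast h1
  subst hn
  obtain ⟨B, μ, h1, h2, h3⟩ := exists_eigenbasis_rep ρ g
  let e : Fin (Module.finrank ℂ (Fin 3 → ℂ)) ≃ Fin 3 := finCongr (Module.finrank_fin_fun ℂ)
  have hdet : ∏ i, μ (e.symm i) = 1 := by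
    rw [e.symm.prod_comp μ, ← det_eq_one_of_perfect hperf ρ g, ← LinearMap.det_toMatrix B,
      show LinearMap.toMatrix B B (ρ g) = Matrix.diagonal μ by
        ext i j
        rw [LinearMap.toMatrix_apply, h1 j, map_smul, Finsupp.smul_apply, B.repr_self,
          Finsupp.single_apply, Matrix.diagonal_apply]
        rcases eq_or_ne i j with rfl | hij
        · simp
        · simp [hij, Ne.symm hij],
      Matrix.det_diagonal]
  have hsum : ρ.character g = ∑ i, μ (e.symm i) := by rw [h3, e.symm.sum_comp μ]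
  have hsq : ρ.character (g * g) = ∑ i, μ (e.symm i) * μ (e.symm i) := by
    rw [e.symm.sum_comp fun i => μ i * μ i]
    refine trace_eq_sum_of_eigenbasis B _ _ fun i => ?_
    rw [map_mul, Module.End.mul_apply, h1, map_smul, h1, smul_smul]
  rw [Fin.prod_univ_three] at hdet
  rw [Fin.sum_univ_three] at hsum hsq
  exact ⟨_, _, _, h2 _, h2 _, h2 _, hdet, hsum, hsq⟩

/-- `χ(g²) = χ(g)² - 2 conj χ(g)` in degree three with determinant one. -/
theorem apply_sq (hperf : commutator G = ⊤) {χ : G → ℂ} (hχ : Cfsg.IsCharacter G χ)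
    (h1 : χ 1 = 3) (g : G) : χ (g * g) = χ g * χ g - 2 * conj (χ g) := by
  obtain ⟨a, b, c, ha, hb, hc, habc, hg, hgg⟩ := exists_eigen_three hperf hχ h1 g
  have hinv : ∀ z : ℂ, z ^ orderOf g = 1 → conj z = z⁻¹ := fun z hz =>
    (Complex.inv_eq_conj (Complex.norm_eq_one_of_pow_eq_one hz (orderOf_pos g).ne')).symm
  have ea : a⁻¹ = b * c := inv_eq_of_mul_eq_one_right (by linear_combination habc)
  have eb : b⁻¹ = a * c := inv_eq_of_mul_eq_one_right (by linear_combination habc)
  have ec : c⁻¹ = a * b := inv_eq_of_mul_eq_one_right (by linear_combination habc)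
  rw [hg, hgg, map_add, map_add, hinv a ha, hinv b hb, hinv c hc, ea, eb, ec]
  ring

/-- A real value in degree three is at least `-1` and at most `3`. -/
theorem real_bounds (hperf : commutator G = ⊤) {χ : G → ℂ} (hχ : Cfsg.IsCharacter G χ)
    (h1 : χ 1 = 3) (g : G) (hreal : conj (χ g) = χ g) : -1 ≤ (χ g).re ∧ (χ g).re ≤ 3 := by
  obtain ⟨a, b, c, ha, hb, hc, habc, hg, -⟩ := exists_eigen_three hperf hχ h1 g
  have hn : ∀ z : ℂ, z ^ orderOf g = 1 → ‖z‖ = 1 := fun z hz =>
    Complex.norm_eq_one_of_pow_eq_one hz (orderOf_pos g).ne'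
  have hinv : ∀ z : ℂ, z ^ orderOf g = 1 → conj z = z⁻¹ := fun z hz =>
    (Complex.inv_eq_conj (hn z hz)).symm
  have ea : a⁻¹ = b * c := inv_eq_of_mul_eq_one_right (by linear_combination habc)
  have eb : b⁻¹ = a * c := inv_eq_of_mul_eq_one_right (by linear_combination habc)
  have ec : c⁻¹ = a * b := inv_eq_of_mul_eq_one_right (by linear_combination habc)
  have he : b * c + a * c + a * b = a + b + c := by
    rw [← ea, ← eb, ← ec, ← hinv a ha, ← hinv b hb, ← hinv c hc, ← map_add, ← map_add, ← hg]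
    rw [hreal, hg]
  have hone : (1 - a) * (1 - b) * (1 - c) = 0 := by linear_combination he - habc
  have key : ∀ x y z : ℂ, ‖x‖ = 1 → x = 1 → ‖y‖ = 1 → ‖z‖ = 1 → x * y * z = 1 →
      -1 ≤ (x + y + z).re ∧ (x + y + z).re ≤ 3 := by
    intro x y z _ hx hy hz hxyz
    subst hx
    rw [one_mul] at hxyz
    have hy0 : y ≠ 0 := by intro h; simp [h] at hxyz
    have hzy : z = conj y := by
      rw [← Complex.inv_eq_conj hy]
      exact eq_inv_of_mul_eq_one_right hxyz
    subst hzy
    have hb := Complex.abs_re_le_norm y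
    rw [hy, abs_le] at hb
    simp only [Complex.add_re, Complex.one_re, Complex.conj_re]
    constructor <;> linarith [hb.1, hb.2]
  rw [hg]
  rcases mul_eq_zero.1 hone with h | h
  · rcases mul_eq_zero.1 h with h | h
    · exact key a b c (hn a ha) (sub_eq_zero.1 h).symm (hn b hb) (hn c hc) habc
    · rw [show a + b + c = b + a + c by ring]
      exact key b a c (hn b hb) (sub_eq_zero.1 h).symm (hn a ha) (hn c hc)
        (by linear_combination habc)
  · rw [show a + b + c = c + a + b by ring]
    exact key c a b (hn c hc) (sub_eq_zero.1 h).symm (hn a ha) (hn b hb) (by linear_combination habc)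

omit [Finite G] in
theorem dot_cross_map (f : (Fin 3 → ℂ) →ₗ[ℂ] (Fin 3 → ℂ)) (v w x : Fin 3 → ℂ) :
    f v ⬝ᵥ (f w ⨯₃ f x) = LinearMap.det f * (v ⬝ᵥ (w ⨯₃ x)) := by
  rw [triple_product_eq_det, triple_product_eq_det]
  have h1 : (Pi.basisFun ℂ (Fin 3)).det ![f v, f w, f x] = Matrix.det ![f v, f w, f x] := by
    rw [Module.Basis.det_apply, ← Matrix.det_transpose]
    rfl
  have h2 : (Pi.basisFun ℂ (Fin 3)).det ![v, w, x] = Matrix.det ![v, w, x] := by
    rw [Module.Basis.det_apply, ← Matrix.det_transpose]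
    rfl
  rw [← h1, ← h2, ← Module.Basis.det_comp]
  congr 1
  ext i : 1
  fin_cases i <;> rfl

/-- In degree three with determinant one the dual occurs in the tensor square. -/
theorem classInner_sq_conj_ne_zero [Fintype G] (hperf : commutator G = ⊤) {χ : G → ℂ}
    (hχ : Cfsg.IsCharacter G χ) (h1 : χ 1 = 3) :
    Cfsg.classInner (fun g => conj (χ g)) (χ * χ) ≠ 0 := by
  obtain ⟨n, ρ, rfl⟩ := hχ
  have hn : n = 3 := by
    rw [Representation.char_one, Module.finrank_fin_fun] at h1
    exact_mod_cast h1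
  subst hn
  have hd : ρ.dual.character = fun g => conj (ρ.character g) := funext fun g => by
    rw [Representation.char_dual, character_inv]
  rw [← hd, ← Representation.char_tensor, classInner_character]
  let B : (Fin 3 → ℂ) →ₗ[ℂ] (Fin 3 → ℂ) →ₗ[ℂ] Module.Dual ℂ (Fin 3 → ℂ) :=
    LinearMap.mk₂ ℂ (fun v w => (dotProductBilin ℂ ℂ) (v ⨯₃ w))
      (by intros; simp) (by intros; simp) (by intros; simp) (by intros; simp)
  have hB : ∀ g v w x, B (ρ g v) (ρ g w) (ρ g x) = B v w x := by
    intro g v w x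
    show (ρ g v ⨯₃ ρ g w) ⬝ᵥ ρ g x = (v ⨯₃ w) ⬝ᵥ x
    rw [dotProduct_comm, dot_cross_map, det_eq_one_of_perfect hperf, one_mul, dotProduct_comm]
  let T : Representation.IntertwiningMap (ρ.tprod ρ) ρ.dual :=
    { toLinearMap := TensorProduct.lift B
      isIntertwining' := fun g => TensorProduct.ext' fun v w => LinearMap.ext fun x => by
        simp only [Representation.tprod_apply, LinearMap.comp_apply, TensorProduct.map_tmul,
          TensorProduct.lift.tmul, Representation.dual_apply, Module.Dual.transpose_apply]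
        have := hB g v w (ρ g⁻¹ x)
        rwa [← Module.End.mul_apply, ← map_mul, mul_inv_cancel, map_one, Module.End.one_apply]
          at this }
  have hT : T ≠ 0 := by
    intro h
    have h2 := congrArg (fun S : Representation.IntertwiningMap (ρ.tprod ρ) ρ.dual =>
      S.toLinearMap ((Pi.single 0 1) ⊗ₜ[ℂ] (Pi.single 1 1)) (Pi.single 2 1)) h
    simp [T, B, cross_apply, vec3_dotProduct, dotProductBilin] at h2
  intro h0
  have : Module.finrank ℂ (Representation.IntertwiningMap (ρ.tprod ρ) ρ.dual) = 0 := by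
    exact_mod_cast h0
  haveI := Module.finrank_zero_iff.1 this
  exact hT (Subsingleton.elim _ _)

end Cfsg.Agent.H2.ChiFour
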