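import Cfsg.Agent.H2.ChiFour.Count
import Cfsg.Agent.H84.Kernel
import Cfsg.Agent.S4068
import Cfsg.Agent.H66.OrderSixty
import Cfsg.Agent.Cores.PCore
import Cfsg.Agent.PGroups.Basic
import Cfsg.Agent.H65.DihedralAltSix

/-!
# Groups with `χ(1) - χ(u) = 4` or `χ(u) = 0`: the map onto the alternating group of degree five
-/

set_option linter.style.haveILetI false

namespace Cfsg.Agent.H2.ChiFour

open CharBasic BlockBasic

universe u

variable {G : Type u} [Group G]

theorem ncard_class [Finite G] (s : G) :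
    {g : G | IsConj s g}.ncard = (Subgroup.centralizer ({s} : Set G)).index := by
  classical
  have := Fintype.ofFinite G
  rw [← H83.classSize_eq_index, ← Set.ncard_coe_finset]
  congr 1
  ext g
  simp

theorem alt_five_pow_four : ∀ a : alternatingGroup (Fin 5), a ^ 4 = 1 → a ^ 2 = 1 := by
  decide +kernel

theorem card_alt_five : Nat.card (alternatingGroup (Fin 5)) = 60 := by
  rw [Nat.card_eq_fintype_card]
  rfl

variable [Fintype G] {x : G}

theorem hyp_quot (h : Hyp G x) (K : Subgroup G) [K.Normal] (hx : (x : G ⧸ K) ≠ 1) :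
    Hyp (G ⧸ K) (x : G ⧸ K) := by
  refine ⟨hx, fun χ hne => ?_⟩
  have := h.2 ⟨_, CharInduce.IsIrr.comp χ.2 (QuotientGroup.mk' K) (QuotientGroup.mk'_surjective K)⟩
    fun e => hne (funext fun y => by
      obtain ⟨g, rfl⟩ := QuotientGroup.mk'_surjective K y
      exact congrFun e g)
  simpa using this

theorem orderOf_dvd_four (h : Hyp G x) : orderOf x ∣ 4 := by
  have := Subgroup.orderOf_dvd_natCard (Subgroup.centralizer ({x} : Set G))
    (Subgroup.mem_centralizer_singleton_iff.2 rfl : x ∈ Subgroup.centralizer ({x} : Set G))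
  rwa [card_centralizer h] at this

theorem not_solvable (h : Hyp G x) : ¬ Group.IsSolvable G := fun hs => by
  have : Nontrivial G := ⟨x, 1, h.1⟩
  exact (Group.IsSolvable.commutator_lt_top_of_nontrivial G).ne (perfect h)

theorem case_involution (h : Hyp G x) (hxx : x * x = 1) :
    Nat.card G = 60 ∧ Nonempty (G ≃* alternatingGroup (Fin 5)) ∧
      ∀ t : G, orderOf t = 2 → IsConj x t := by
  classical
  set C := Subgroup.centralizer ({x} : Set G) with hC
  have hC4 : (C : Set G).ncard = 4 := by
    rw [← Nat.card_coe_set_eq]; exact card_centralizer h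
  set T := {a : G | IsConj x a ∧ IsConj x (a⁻¹ * x)} with hT
  have hN : 30 * T.ncard = Nat.card G := by
    rw [← Nat.card_coe_set_eq]; exact (card_pairs h).1
  have hsq : ∀ a, IsConj x a → a * a = 1 := by
    intro a ha
    obtain ⟨c, rfl⟩ := isConj_iff.1 ha
    calc c * x * c⁻¹ * (c * x * c⁻¹) = c * (x * x) * c⁻¹ := by group
      _ = 1 := by rw [hxx]; group
  have hne : ∀ a, IsConj x a → a ≠ 1 := fun a ha e => h.1 (isConj_one_left.1 (e ▸ ha))
  have hsub : T ⊆ (C : Set G) \ {1, x} := by
    rintro a ⟨h1, h2⟩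
    refine ⟨?_, fun hc => ?_⟩
    · rw [SetLike.mem_coe, hC, Subgroup.mem_centralizer_singleton_iff]
      have e1 := hsq a h1
      have e2 := hsq _ h2
      rw [← eq_inv_of_mul_eq_one_left e1] at e2
      rw [eq_inv_of_mul_eq_one_left e2, mul_inv_rev, ← eq_inv_of_mul_eq_one_left e1,
        ← eq_inv_of_mul_eq_one_left hxx]
    · rcases hc with rfl | rfl
      · exact hne _ h1 rfl
      · exact hne _ h2 (inv_mul_cancel _)
  have h2 : ((C : Set G) \ {1, x}).ncard = 2 := by
    rw [Set.ncard_sdiff (by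
      rintro a (rfl | rfl)
      · exact C.one_mem
      · exact Subgroup.mem_centralizer_singleton_iff.2 rfl), hC4, Set.ncard_pair h.1.symm]
  have hle := Set.ncard_le_ncard hsub
  have h4 : 4 ∣ Nat.card G := card_centralizer h ▸ Subgroup.card_subgroup_dvd_card C
  have hpos : 0 < Nat.card G := Nat.card_pos
  obtain ⟨k, hk⟩ := h4
  have hG : Nat.card G = 60 := by omega
  have hTeq : T = (C : Set G) \ {1, x} := Set.eq_of_subset_of_ncard_le hsub (by omega)
  refine ⟨hG, H66.iso_altFive hG fun h1 => ?_, fun t ht => ?_⟩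
  · haveI : Fact (Nat.Prime 5) := ⟨Nat.prime_five⟩
    obtain ⟨P⟩ : Nonempty (Sylow 5 G) := inferInstance
    haveI := (Nat.card_eq_one_iff_unique.1 h1).1
    haveI : (P : Subgroup G).Normal := P.normal_of_subsingleton
    have hP : Nat.card (P : Subgroup G) = 5 := by
      rw [P.card_eq_multiplicity, hG, show (60 : ℕ) = 5 * 12 from rfl,
        Nat.factorization_mul (by norm_num) (by norm_num), Finsupp.add_apply,
        Nat.prime_five.factorization_self, Nat.factorization_eq_zero_of_not_dvd (by norm_num)]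
      norm_num
    have hQ : Nat.card (G ⧸ (P : Subgroup G)) = 12 := by
      have := (P : Subgroup G).card_mul_index
      rw [hP, hG, Subgroup.index_eq_card] at this
      omega
    have hs : Group.IsSolvable (G ⧸ (P : Subgroup G)) := S4068.solvable_of_two_primes <| by
      rw [hQ]
      refine (Finset.card_le_card (show (12 : ℕ).primeFactors ⊆ {2, 3} from fun l hl => ?_)).trans
        Finset.card_le_two
      obtain ⟨h1, h2, -⟩ := Nat.mem_primeFactors.1 hl
      have := Nat.le_of_dvd (by norm_num) h2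
      interval_cases l <;> first | decide | (revert h1 h2; norm_num)
    have : Group.IsSolvable (P : Subgroup G) := by
      have := P.isPGroup'.isNilpotent
      infer_instance
    exact not_solvable h ((Group.isSolvable_iff_subgroup_quotient (P : Subgroup G)).2 ⟨this, hs⟩)
  · haveI : Fact (Nat.Prime 2) := ⟨Nat.prime_two⟩
    have hCp : IsPGroup 2 C := IsPGroup.of_card (n := 2) (by rw [card_centralizer h]; rfl)
    obtain ⟨S₀, hS₀⟩ := hCp.exists_le_sylow
    have hS₀e : (S₀ : Subgroup G) = C := by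
      refine (Subgroup.eq_of_le_of_card_ge hS₀ ?_).symm
      rw [card_centralizer h, S₀.card_eq_multiplicity, hG, show (60 : ℕ) = 2 ^ 2 * 15 from rfl,
        Nat.factorization_mul (by norm_num) (by norm_num), Finsupp.add_apply,
        Nat.prime_two.factorization_pow, Nat.factorization_eq_zero_of_not_dvd (by norm_num)]
      simp
    obtain ⟨S, hS⟩ := (IsPGroup.of_card (p := 2) (n := 1) (G := Subgroup.zpowers t)
      (by rw [Nat.card_zpowers, ht, pow_one])).exists_le_sylow
    obtain ⟨g, hg⟩ := MulAction.exists_smul_eq G S S₀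
    have hmem : g * t * g⁻¹ ∈ C := by
      rw [← hS₀e, ← hg]
      exact Subgroup.smul_mem_pointwise_smul t (MulAut.conj g) _ (hS (Subgroup.mem_zpowers t))
    have hne1 : g * t * g⁻¹ ≠ 1 := by
      rw [Ne, conj_eq_one_iff]
      rintro rfl
      simp at ht
    refine IsConj.trans ?_ (isConj_iff.2 ⟨g, rfl⟩ : IsConj t (g * t * g⁻¹)).symm
    rcases eq_or_ne (g * t * g⁻¹) x with e | e
    · rw [e]
    · have : g * t * g⁻¹ ∈ T := hTeq ▸ ⟨hmem, by simp [hne1, e]⟩
      exact this.1

/-- The epimorphism onto the alternating group of degree five. -/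
theorem exists_hom (h : Hyp G x) :
    ∃ q : G →* alternatingGroup (Fin 5), Function.Surjective q ∧ orderOf (q x) = 2 ∧
      (∀ g : G, orderOf (q g) = 2 → IsConj x g) ∧ (x * x = 1 → Function.Injective q) := by
  by_cases hxx : x * x = 1
  · obtain ⟨-, ⟨e⟩, ht⟩ := case_involution h hxx
    refine ⟨e.toMonoidHom, e.surjective, ?_, fun g hg => ht g ?_, fun _ => e.injective⟩
    · rw [orderOf_injective _ e.injective]
      exact orderOf_eq_prime (by rwa [pow_two]) h.1
    · rwa [orderOf_injective _ e.injective] at hg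
  obtain ⟨χ, hχ⟩ := exists_three h
  obtain ⟨K, hKn, hK, -⟩ := H84.exists_kernel χ
  haveI := hKn
  have hxK : (x : G ⧸ K) ≠ 1 := by
    rw [Ne, QuotientGroup.eq_one_iff, hK, hχ.apply_val h, hχ.apply_one]
    norm_num
  have hzK : x * x ∈ K := by
    rw [hK, hχ.apply_one, apply_sq (perfect h) (IsIrr.isCharacter χ.2) hχ.apply_one x, hχ.apply_val h,
      map_neg, map_one]
    norm_num
  haveI := Fintype.ofFinite (G ⧸ K)
  have h' := hyp_quot h K hxK
  have hzz : (x : G ⧸ K) * (x : G ⧸ K) = 1 := by
    rw [← QuotientGroup.mk_mul, QuotientGroup.eq_one_iff]; exact hzK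
  obtain ⟨h60, ⟨e⟩, ht⟩ := case_involution h' hzz
  refine ⟨e.toMonoidHom.comp (QuotientGroup.mk' K),
    e.surjective.comp (QuotientGroup.mk'_surjective K), ?_, fun g hg => ?_, fun hh => absurd hh hxx⟩
  · show orderOf (e (x : G ⧸ K)) = 2
    rw [MulEquiv.orderOf_eq]
    exact orderOf_eq_prime (by rwa [pow_two]) hxK
  · have hg' : IsConj (x : G ⧸ K) (g : G ⧸ K) := ht _ (by
      rw [← MulEquiv.orderOf_eq e]; exact hg)
    have hsub : {a : G | IsConj x a} ⊆ (QuotientGroup.mk : G → G ⧸ K) ⁻¹' {c | IsConj (x : G ⧸ K) c} :=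
      fun a ha => MonoidHom.map_isConj (QuotientGroup.mk' K) ha
    have heq := Set.eq_of_subset_of_ncard_le hsub (by
      rw [ncard_class, ← Nat.card_coe_set_eq,
        Nat.card_congr (QuotientGroup.preimageMkEquivSubgroupProdSet K _), Nat.card_prod,
        Nat.card_coe_set_eq, ncard_class]
      have h1 := index_centralizer h
      have h2 := index_centralizer h'
      rw [h60] at h2
      have h3 := K.card_mul_index
      rw [Subgroup.index_eq_card, h60] at h3
      rw [show (Subgroup.centralizer ({(x : G ⧸ K)} : Set (G ⧸ K))).index = 15 by omega]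
      omega)
    have : g ∈ (QuotientGroup.mk : G → G ⧸ K) ⁻¹' {c | IsConj (x : G ⧸ K) c} := hg'
    rw [← heq] at this
    exact this

section Ext

variable (h : Hyp G x) (hxx : x * x ≠ 1) {q : G →* alternatingGroup (Fin 5)}
  (hq : Function.Surjective q) (hx2 : orderOf (q x) = 2)
  (hinv : ∀ g : G, orderOf (q g) = 2 → IsConj x g)

include hq in
theorem card_eq : Nat.card G = 60 * Nat.card q.ker := by
  rw [← q.ker.card_mul_index, Subgroup.index_ker, MonoidHom.range_eq_top.2 hq, Subgroup.card_top,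
    card_alt_five, mul_comm]

include h hinv in
theorem card_centralizer_of (g : G) (hg : orderOf (q g) = 2) :
    Nat.card (Subgroup.centralizer ({g} : Set G)) = 4 := by
  have hc := hinv g hg
  have hset : {a : G | IsConj g a} = {a : G | IsConj x a} :=
    Set.ext fun a => ⟨hc.trans, hc.symm.trans⟩
  have h1 := index_centralizer h
  have h2 := H83.classSize_mul_centralizer g
  have h3 := ncard_class g
  rw [hset, ncard_class] at h3
  rw [← h3, ← h1] at h2
  exact Nat.eq_of_mul_eq_mul_left (Nat.pos_of_ne_zero Subgroup.index_ne_zero_of_finite) h2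

omit [Fintype G] in
include hx2 in
theorem z_mem_ker : x * x ∈ q.ker := by
  rw [MonoidHom.mem_ker, map_mul, ← pow_two, ← hx2, pow_orderOf_eq_one]

include h hxx in
theorem orderOf_z : orderOf (x * x) = 2 := by
  refine orderOf_eq_prime ?_ hxx
  rw [← pow_two, ← pow_mul]
  exact orderOf_dvd_iff_pow_eq_one.1 (orderOf_dvd_four h)

/-- A central element cannot be moved by all of three elements of a Klein four-group. -/
theorem exists_centralizing {T : Type*} [Group T] [Finite T] (P : Subgroup T) [P.Normal]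
    (hT : IsPGroup 2 T) (hP : Nat.card P = 4) (s t : T) :
    ∃ p₀ ∈ P, ∃ c ∈ P, c ≠ 1 ∧ p₀ ≠ 1 ∧ p₀ ≠ c ∧ (∀ a, a * c = c * a) ∧
      ((P : Set T) = {1, c, p₀, c * p₀}) ∧
      (s * p₀ = p₀ * s ∨ t * p₀ = p₀ * t ∨ s * t * p₀ = p₀ * (s * t)) := by
  haveI : Fact (Nat.Prime 2) := ⟨Nat.prime_two⟩
  obtain ⟨Z, hZn, hZP, hZ2⟩ := Cfsg.Agent.PGroups.exists_normal_card_le hT P 1 (by omega)
  haveI := hZn
  obtain ⟨⟨c, hc⟩, ⟨⟨b, hb⟩, hbc⟩⟩ : ∃ c : Z, ∃ b : Z, b ≠ c := by
    have : Nontrivial Z := Finite.one_lt_card_iff_nontrivial.1 (by omega)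
    exact ⟨1, exists_ne 1⟩
  obtain ⟨c, hcZ, hc1⟩ : ∃ c ∈ Z, c ≠ 1 := by
    by_contra hno
    push Not at hno
    exact hbc (Subtype.ext ((hno b hb).trans (hno c hc).symm))
  have hZ : (Z : Set T) = {1, c} := by
    refine (Set.eq_of_subset_of_ncard_le ?_ ?_).symm
    · rintro a (rfl | rfl)
      exacts [Z.one_mem, hcZ]
    · rw [Set.ncard_pair hc1.symm, ← Nat.card_coe_set_eq]; exact hZ2.le
  have hcen : ∀ a, a * c = c * a := fun a => by
    have hm : a * c * a⁻¹ ∈ (Z : Set T) := hZn.conj_mem c hcZ a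
    rw [hZ] at hm
    rcases hm with e | e
    · exact absurd (conj_eq_one_iff.1 e) hc1
    · exact mul_inv_eq_iff_eq_mul.1 e
  have hcc : c * c = 1 := by
    rw [← pow_two]
    have := Z.orderOf_dvd_natCard hcZ
    rw [hZ2, pow_one] at this
    exact orderOf_dvd_iff_pow_eq_one.1 this
  have hcP := hZP hcZ
  obtain ⟨p₀, hp, hp'⟩ : ∃ p₀ ∈ (P : Set T), p₀ ∉ ({1, c} : Set T) := by
    by_contra hno
    push Not at hno
    have := Set.ncard_le_ncard (show (P : Set T) ⊆ {1, c} from hno)
    rw [Set.ncard_pair hc1.symm, ← Nat.card_coe_set_eq] at this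
    have : Nat.card P ≤ 2 := this
    omega
  simp only [Set.mem_insert_iff, Set.mem_singleton_iff, not_or] at hp'
  have n1 : c * p₀ ≠ 1 := fun e => hp'.2 ((eq_inv_of_mul_eq_one_right e).trans (eq_inv_of_mul_eq_one_left hcc).symm)
  have n2 : c * p₀ ≠ c := fun e => hp'.1 (mul_eq_left.1 e)
  have n3 : c * p₀ ≠ p₀ := fun e => hc1 (mul_eq_right.1 e)
  have hPe : (P : Set T) = {1, c, p₀, c * p₀} := by
    refine (Set.eq_of_subset_of_ncard_le ?_ ?_).symm
    · rintro a (rfl | rfl | rfl | rfl)
      exacts [P.one_mem, hcP, hp, P.mul_mem hcP hp]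
    · rw [Set.ncard_insert_of_notMem (by simp [Ne.symm hc1, Ne.symm hp'.1, Ne.symm n1]),
        Set.ncard_insert_of_notMem (by simp [Ne.symm hp'.2, Ne.symm n2]),
        Set.ncard_pair (Ne.symm n3), ← Nat.card_coe_set_eq]
      exact hP.le
  refine ⟨p₀, hp, c, hcP, hc1, hp'.1, hp'.2, hcen, hPe, ?_⟩
  have hcases : ∀ a, a * p₀ = p₀ * a ∨ a * p₀ = c * p₀ * a := fun a => by
    have hm : a * p₀ * a⁻¹ ∈ (P : Set T) := ‹P.Normal›.conj_mem p₀ hp a
    rw [hPe] at hm
    rcases hm with e | e | e | e
    · exact absurd (conj_eq_one_iff.1 e) hp'.1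
    · have : p₀ = c := by
        have e' := mul_inv_eq_iff_eq_mul.1 e
        rw [← hcen a] at e'
        exact mul_left_cancel e'
      exact absurd this hp'.2
    · exact Or.inl (mul_inv_eq_iff_eq_mul.1 e)
    · exact Or.inr (mul_inv_eq_iff_eq_mul.1 e)
  rcases hcases s with e1 | e1
  · exact Or.inl e1
  rcases hcases t with e2 | e2
  · exact Or.inr (Or.inl e2)
  refine Or.inr (Or.inr ?_)
  calc s * t * p₀ = (s * c) * p₀ * t := by rw [mul_assoc, e2]; group
    _ = c * (s * p₀) * t := by rw [hcen s]; group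
    _ = (c * c) * p₀ * (s * t) := by rw [e1]; group
    _ = p₀ * (s * t) := by rw [hcc, one_mul]

include h hxx hq hx2 hinv in
theorem not_four_dvd_ker :
    ¬ 4 ∣ Nat.card q.ker ∧ ∃ v : G, v * (x * x) = x * x * v ∧ orderOf (q v) = 2 ∧
      orderOf (q (x * v)) = 2 := by
  classical
  haveI : Fact (Nat.Prime 2) := ⟨Nat.prime_two⟩
  obtain ⟨S, hS⟩ := (IsPGroup.of_card (p := 2) (n := 2) (G := Subgroup.centralizer ({x} : Set G))
    (by rw [card_centralizer h]; rfl)).exists_le_sylow
  have hxS : x ∈ (S : Subgroup G) := hS (Subgroup.mem_centralizer_singleton_iff.2 rfl)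
  let r : ↥(S : Subgroup G) →* alternatingGroup (Fin 5) := q.comp (S : Subgroup G).subtype
  have hr4 : Nat.card r.range = 4 := by
    have e : r.range = ((S.mapSurjective hq : Sylow 2 _) : Subgroup _) := by
      rw [Sylow.coe_mapSurjective]
      show (q.comp (S : Subgroup G).subtype).range = _
      rw [MonoidHom.range_comp, Subgroup.range_subtype]
    rw [e, Sylow.card_eq_multiplicity, card_alt_five, show (60 : ℕ) = 2 ^ 2 * 15 from rfl,
      Nat.factorization_mul (by norm_num) (by norm_num), Finsupp.add_apply,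
      Nat.prime_two.factorization_pow, Nat.factorization_eq_zero_of_not_dvd (by norm_num)]
    simp
  set P := r.ker with hP
  have hPi : P.index = 4 := by rw [hP, Subgroup.index_ker, hr4]
  have hScard : Nat.card ↥(S : Subgroup G) = Nat.card P * 4 := by rw [← hPi, P.card_mul_index]
  have hsq : ∀ w, r w * r w = 1 := fun w => by
    rw [← pow_two]
    apply alt_five_pow_four
    have h1 := Subgroup.orderOf_dvd_natCard r.range ⟨w, rfl⟩
    rw [hr4] at h1
    exact orderOf_dvd_iff_pow_eq_one.1 h1
  have hcomm : ∀ a b, r a * r b = r b * r a := fun a b => by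
    have e := hsq (a * b)
    rw [map_mul] at e
    rw [eq_inv_of_mul_eq_one_left e, mul_inv_rev, ← eq_inv_of_mul_eq_one_left (hsq a),
      ← eq_inv_of_mul_eq_one_left (hsq b)]
  have hout : ∀ w, w ∉ P → orderOf (q (w : G)) = 2 := fun w hw =>
    orderOf_eq_prime (p := 2) (by rw [pow_two]; exact hsq w) hw
  -- classes outside `P` are cosets of `P`
  have hclass : ∀ w, w ∉ P → ∀ p ∈ P, IsConj w (w * p) := by
    intro w hw
    have hsub : {a | IsConj w a} ⊆ (fun p => w * p) '' (P : Set ↥(S : Subgroup G)) := by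
      intro a ha
      obtain ⟨c, rfl⟩ := isConj_iff.1 ha
      refine ⟨w⁻¹ * (c * w * c⁻¹), ?_, mul_inv_cancel_left _ _⟩
      rw [SetLike.mem_coe, hP, MonoidHom.mem_ker, map_mul, map_mul, map_mul, map_inv, map_inv, hcomm c w]
      group
    have hle : ((fun p => w * p) '' (P : Set ↥(S : Subgroup G))).ncard ≤ {a | IsConj w a}.ncard := by
      rw [Set.ncard_image_of_injective _ (mul_right_injective w), ← Nat.card_coe_set_eq, ncard_class]
      show Nat.card P ≤ _
      have hc : Nat.card (Subgroup.centralizer ({w} : Set ↥(S : Subgroup G))) ≤ 4 := by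
        rw [← card_centralizer_of h hinv (w : G) (hout w hw)]
        refine Nat.card_le_card_of_injective
          (fun a => ⟨((a : ↥(S : Subgroup G)) : G), Subgroup.mem_centralizer_singleton_iff.2
            (congrArg Subtype.val (Subgroup.mem_centralizer_singleton_iff.1 a.2))⟩) ?_
        intro a b hab
        exact Subtype.ext (Subtype.ext (congrArg Subtype.val hab :))
      have h1 := H83.classSize_mul_centralizer w
      rw [hScard] at h1
      have h2 := Nat.mul_le_mul_left (Subgroup.centralizer ({w} : Set ↥(S : Subgroup G))).index hc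
      omega
    have heq := Set.eq_of_subset_of_ncard_le hsub hle
    intro p hp
    have hm : w * p ∈ {a | IsConj w a} := heq ▸ ⟨p, hp, rfl⟩
    exact hm
  set x' : ↥(S : Subgroup G) := ⟨x, hxS⟩
  have hxP : x' ∉ P := fun e => by
    have e' : q x = 1 := e
    rw [e', orderOf_one] at hx2
    omega
  obtain ⟨t, ht, ht'⟩ : ∃ t, t ∉ P ∧ x' * t ∉ P := by
    by_contra hno
    push Not at hno
    have hsub : (r.range : Set (alternatingGroup (Fin 5))) ⊆ {1, r x'} := by
      rintro _ ⟨w, rfl⟩
      by_cases hw : w ∈ P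
      · exact Or.inl hw
      · have e := MonoidHom.mem_ker.1 (hno w hw)
        rw [map_mul] at e
        exact Or.inr ((eq_inv_of_mul_eq_one_right e).trans (eq_inv_of_mul_eq_one_left (hsq x')).symm)
    have h1 := Set.ncard_le_ncard hsub
    rw [← Nat.card_coe_set_eq] at h1
    have h2 : Nat.card r.range ≤ _ := h1.trans (Set.ncard_insert_le _ _)
    rw [Set.ncard_singleton] at h2
    omega
  -- the kernel in `S` has order two
  have hS2 : IsPGroup 2 ↥(S : Subgroup G) := S.isPGroup'
  have hP2 : Nat.card P ≤ 2 := by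
    obtain ⟨k, hk⟩ := IsPGroup.iff_card.1 (hS2.to_subgroup P)
    by_contra hlt
    have hk2 : 2 ≤ k := by
      by_contra hk'
      have : 2 ^ k ≤ 2 ^ 1 := Nat.pow_le_pow_right (by norm_num) (by omega)
      omega
    have hkk : 2 ^ k = 2 ^ (k - 2) * 4 := by
      rw [show (4 : ℕ) = 2 ^ 2 from rfl, ← pow_add, Nat.sub_add_cancel hk2]
    have hkpos : 0 < 2 ^ (k - 2) := by positivity
    obtain ⟨R, hRn, hRP, hR⟩ := Cfsg.Agent.PGroups.exists_normal_card_le hS2 P (k - 2)
      (by omega)
    haveI := hRn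
    let π := QuotientGroup.mk' R
    have hRT : Nat.card (↥(S : Subgroup G) ⧸ R) = 16 := by
      have h1 := R.card_mul_index
      rw [Subgroup.index_eq_card, hR, hScard, hk, hkk] at h1
      exact Nat.eq_of_mul_eq_mul_left hkpos (by linarith)
    set P' := P.map π with hP'
    haveI : P'.Normal := Subgroup.Normal.map inferInstance π (QuotientGroup.mk'_surjective R)
    have hP'c : Nat.card P' = 4 := by
      have hidx : P'.index = 4 := by
        rw [hP', Subgroup.index_map_eq _ (QuotientGroup.mk'_surjective R)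
          (by rw [QuotientGroup.ker_mk']; exact hRP), hPi]
      have := P'.card_mul_index
      rw [hidx, hRT] at this
      omega
    obtain ⟨p₀, hp₀, c, hc, -, -, -, hcen, hPe, hor⟩ :=
      exists_centralizing P' (hS2.to_quotient R) hP'c (π x') (π t)
    obtain ⟨w, hw, hwp⟩ : ∃ w, w ∉ P ∧ π w * p₀ = p₀ * π w := by
      rcases hor with e | e | e
      · exact ⟨x', hxP, e⟩
      · exact ⟨t, ht, e⟩
      · exact ⟨x' * t, ht', by rw [map_mul]; exact e⟩
    have hwP' : π w ∉ P' := by
      rintro ⟨p, hp, e⟩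
      have : p⁻¹ * w ∈ R := QuotientGroup.eq.1 e
      have h2 := P.mul_mem hp (hRP this)
      rw [mul_inv_cancel_left] at h2
      exact hw h2
    have hge : 4 ≤ (Subgroup.centralizer ({π w} : Set (↥(S : Subgroup G) ⧸ R))).index := by
      rw [← ncard_class]
      have hs : (fun a => π w * a) '' (P' : Set (↥(S : Subgroup G) ⧸ R)) ⊆ {a | IsConj (π w) a} := by
        rintro _ ⟨_, ⟨p, hp, rfl⟩, rfl⟩
        show IsConj (π w) (π w * π p)
        rw [← map_mul]
        exact MonoidHom.map_isConj π (hclass w hw p hp)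
      have := Set.ncard_le_ncard hs
      rw [Set.ncard_image_of_injective _ (mul_right_injective _), ← Nat.card_coe_set_eq] at this
      exact hP'c.ge.trans this
    have h5 : 5 ≤ Nat.card (Subgroup.centralizer ({π w} : Set (↥(S : Subgroup G) ⧸ R))) := by
      have hs : insert (π w) (P' : Set (↥(S : Subgroup G) ⧸ R)) ⊆
          (Subgroup.centralizer ({π w} : Set (↥(S : Subgroup G) ⧸ R)) : Set _) := by
        rw [hPe]
        rintro a (rfl | rfl | rfl | rfl | rfl) <;>
          rw [SetLike.mem_coe, Subgroup.mem_centralizer_singleton_iff]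
        · rw [one_mul, mul_one]
        · exact (hcen _).symm
        · exact hwp.symm
        · rw [mul_assoc, ← hwp, ← mul_assoc, ← hcen, mul_assoc]
      have := Set.ncard_le_ncard hs
      rw [Set.ncard_insert_of_notMem hwP', ← Nat.card_coe_set_eq, ← Nat.card_coe_set_eq] at this
      have : Nat.card P' + 1 ≤ _ := this
      rw [hP'c] at this
      exact this
    have h6 := H83.classSize_mul_centralizer (π w)
    rw [hRT] at h6
    have := Nat.mul_le_mul hge h5
    omega
  refine ⟨fun h4 => ?_, t, ?_, hout t ht, ?_⟩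
  · have h16 : 2 ^ 4 ∣ Nat.card G := by
      rw [card_eq hq, show (2 : ℕ) ^ 4 = 4 * 4 from rfl]
      exact Nat.mul_dvd_mul (show 4 ∣ 60 by norm_num) h4
    have hd : 2 ^ 4 ∣ Nat.card ↥(S : Subgroup G) := S.pow_dvd_card_of_pow_dvd_card h16
    rw [hScard] at hd
    have := Nat.le_of_dvd (by have : 0 < Nat.card P := Nat.card_pos; omega) hd
    omega
  · have hz : x' * x' ∈ P := z_mem_ker hx2
    have hz1 : x' * x' ≠ 1 := fun e => hxx (congrArg Subtype.val e)
    have hPs : ∀ a ∈ P, a = 1 ∨ a = x' * x' := by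
      intro a ha
      by_contra hno
      push Not at hno
      have h3 : ({1, x' * x', a} : Set ↥(S : Subgroup G)) ⊆ (P : Set _) := by
        rintro b (rfl | rfl | rfl)
        exacts [P.one_mem, hz, ha]
      have := Set.ncard_le_ncard h3
      rw [Set.ncard_insert_of_notMem (by simp [Ne.symm hz1, Ne.symm hno.1]),
        Set.ncard_pair (Ne.symm hno.2), ← Nat.card_coe_set_eq] at this
      have : 3 ≤ Nat.card P := this
      omega
    rcases hPs _ (MonoidHom.normal_ker r |>.conj_mem _ hz t) with e | e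
    · exact absurd (conj_eq_one_iff.1 e) hz1
    · exact congrArg Subtype.val (mul_inv_eq_iff_eq_mul.1 e)
  · exact hout _ ht'

end Ext

end Cfsg.Agent.H2.ChiFour
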